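import Groth.Agent.Grpsch.RBaseChange
import Mathlib.LinearAlgebra.TensorProduct.Basis
import Mathlib.LinearAlgebra.Basis.Defs

/-!
# Invariants of an affine groupoid with a basis of the form `t(x_i)`
-/

set_option autoImplicit false
universe u

open TensorProduct

namespace K392.BasisInv

open Groth.Agent.Grpsch.AffGrpd

variable {A B C : Type u} [CommRing A] [CommRing B] [CommRing C] (G : RGrpd A B) {I : Type u}

section
variable [Algebra A B] (hs : ∀ a, algebraMap A B a = G.s a) (x : I → A)
  (b : Module.Basis I A B) (hb : ∀ i, b i = G.t (x i))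

include hs hb

lemma sum_repr (y : B) : ((b.repr y).sum fun i c => G.s c * G.t (x i)) = y := by
  conv_rhs => rw [← b.linearCombination_repr y, Finsupp.linearCombination_apply]
  refine Finsupp.sum_congr fun i _ => ?_
  rw [Algebra.smul_def, hs, hb]

lemma coeff_inv (a : A) (k : I) :
    G.s (b.repr (G.t a) k) = G.t (b.repr (G.t a) k) := by
  classical
  obtain ⟨l', hl1, hl2⟩ := POut.exists_linear G.t G.s (b.coord k).toAddMonoidHom (fun a y => by
    have : G.s a * y = a • y := by rw [Algebra.smul_def, hs]
    rw [this]
    exact (b.coord k).map_smul a y)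
  have hl2' : ∀ i, l' (POut.inr G.t G.s (G.t (x i))) = if i = k then 1 else 0 := by
    intro i
    rw [hl2, ← hb]
    have h1 : (b.coord k).toAddMonoidHom (b i) = if i = k then 1 else 0 := by
      change b.repr (b i) k = _
      rw [b.repr_self, Finsupp.single_apply]
    rw [h1]
    split_ifs <;> simp
  let m := G.comp (POut.inr G.t G.s) (POut.inl G.t G.s) (POut.w G.t G.s).symm
  have hmt : ∀ a, m (G.t a) = POut.inr G.t G.s (G.t a) := fun a => G.comp_t_apply _ _ _ a
  have hms : ∀ a, m (G.s a) = POut.inl G.t G.s (G.s a) := fun a => G.comp_s_apply _ _ _ a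
  have hsum := sum_repr G hs x b hb (G.t a)
  have e1 : POut.inr G.t G.s (G.t a) =
      (b.repr (G.t a)).sum fun i c => POut.inl G.t G.s (G.s c) * POut.inr G.t G.s (G.t (x i)) := by
    rw [← hmt a]
    conv_lhs => rw [← hsum]
    rw [Finsupp.sum, map_sum]
    exact Finset.sum_congr rfl fun i _ => by rw [map_mul, hmt, hms]
  have e2 : POut.inr G.t G.s (G.t a) =
      (b.repr (G.t a)).sum fun i c => POut.inl G.t G.s (G.t c) * POut.inr G.t G.s (G.t (x i)) := by
    conv_lhs => rw [← hsum]
    rw [Finsupp.sum, map_sum]
    exact Finset.sum_congr rfl fun i _ => by rw [map_mul, ← POut.w_apply]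
  have key : ∀ h : A →+* B, l' ((b.repr (G.t a)).sum fun i c =>
      POut.inl G.t G.s (h c) * POut.inr G.t G.s (G.t (x i))) = h (b.repr (G.t a) k) := by
    intro h
    rw [Finsupp.sum, map_sum]
    rw [Finset.sum_congr rfl (g := fun i => if i = k then h (b.repr (G.t a) k) else 0)
      (fun i _ => by
        rw [hl1, hl2']
        split_ifs with hik
        · rw [hik, mul_one]
        · rw [mul_zero])]
    rw [Finset.sum_ite_eq']
    split_ifs with hk
    · rfl
    · rw [Finsupp.notMem_support_iff.mp hk, map_zero]
  rw [← key G.s, ← e1, e2, key G.t]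

lemma sum_coeff (a : A) : ((b.repr (G.t a)).sum fun i c => c * x i) = a := by
  have h1 := congrArg G.e (sum_repr G hs x b hb (G.t a))
  rw [G.e_t_apply, Finsupp.sum, map_sum] at h1
  conv_rhs => rw [← h1]
  exact Finset.sum_congr rfl fun i _ => by rw [map_mul, G.e_s_apply, G.e_t_apply]

lemma eq_zero_of_sum (c : I →₀ A) (h : (c.sum fun i a => G.s a * G.t (x i)) = 0) : c = 0 := by
  have h1 : Finsupp.linearCombination A b c = 0 := by
    rw [Finsupp.linearCombination_apply, ← h]
    refine Finsupp.sum_congr fun i _ => ?_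
    rw [Algebra.smul_def, hs, hb]
  exact (linearIndependent_iff.mp b.linearIndependent) c h1

variable [Algebra C A] (H : G.IsQuot (algebraMap C A))

include H

theorem exists_basis : ∃ b' : Module.Basis I C A, ∀ i, b' i = x i := by
  have hli : LinearIndependent C x := by
    rw [linearIndependent_iff]
    intro c hc
    let c' : I →₀ A := c.mapRange (algebraMap C A) (map_zero _)
    have h1 : c' = 0 := by
      apply eq_zero_of_sum G hs x b hb
      have h2 := congrArg G.t hc
      rw [map_zero, Finsupp.linearCombination_apply, Finsupp.sum, map_sum] at h2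
      rw [Finsupp.sum_mapRange_index (fun i => by rw [map_zero, zero_mul]), ← h2, Finsupp.sum]
      refine Finset.sum_congr rfl fun i _ => ?_
      rw [Algebra.smul_def, map_mul]
      congr 1
      exact congrArg (fun χ : C →+* B => χ (c i)) H.cond
    ext i
    apply H.inj
    have h3 := DFunLike.congr_fun h1 i
    rw [Finsupp.zero_apply, map_zero]
    exact h3
  have hsp : ⊤ ≤ Submodule.span C (Set.range x) := by
    intro a _
    rw [← sum_coeff G hs x b hb a]
    refine Submodule.sum_mem _ fun i _ => ?_
    obtain ⟨c, hc⟩ := H.ex _ (coeff_inv G hs x b hb a i)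
    change b.repr (G.t a) i * x i ∈ _
    rw [← hc, ← Algebra.smul_def]
    exact Submodule.smul_mem _ _ (Submodule.subset_span ⟨i, rfl⟩)
  exact ⟨Module.Basis.mk hli hsp, fun i => Module.Basis.mk_apply hli hsp i⟩

theorem bijective (φ : A ⊗[C] A → B) (hadd : ∀ z w, φ (z + w) = φ z + φ w)
    (hφ : ∀ a a', φ (a ⊗ₜ a') = G.t a * G.s a') :
    Function.Bijective φ := by
  classical
  obtain ⟨b', hb'⟩ := exists_basis G hs x b hb H
  let E := TensorProduct.equivFinsuppOfBasisLeft (N := A) b'
  have hφ0 : φ 0 = 0 := by
    have := hadd 0 0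
    rw [add_zero] at this
    exact left_eq_add.mp this
  let Φ : A ⊗[C] A →+ B := { toFun := φ, map_zero' := hφ0, map_add' := hadd }
  have hE : ∀ c : I →₀ A, φ (E.symm c) = Finsupp.linearCombination A b c := by
    intro c
    have h1 : E.symm c = c.sum fun i a => b' i ⊗ₜ[C] a :=
      TensorProduct.equivFinsuppOfBasisLeft_symm_apply b' c
    rw [h1, Finsupp.linearCombination_apply]
    change Φ _ = _
    rw [Finsupp.sum, map_sum]
    refine Finset.sum_congr rfl fun i _ => ?_
    change φ _ = _
    rw [hφ, hb']
    change _ = c i • b i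
    rw [Algebra.smul_def, hs, hb, mul_comm]
  have h2 : φ = (fun c => Finsupp.linearCombination A b c) ∘ E := by
    funext z
    rw [Function.comp_apply, ← hE, LinearEquiv.symm_apply_apply]
  have h3 : (fun c : I →₀ A => Finsupp.linearCombination A b c) = b.repr.symm := by
    funext c
    exact (b.repr_symm_apply c).symm
  rw [h2, h3]
  exact b.repr.symm.bijective.comp E.bijective

end

end K392.BasisInv
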