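import Mathlib.RingTheory.Localization.Away.Basic
import Mathlib.Algebra.Ring.Subring.Basic

/-!
# Localization of the equalizer of two ring maps
-/

set_option autoImplicit false

namespace K392.EqLoc

variable {B C B' C' : Type*} [CommRing B] [CommRing C] [CommRing B'] [CommRing C']
  {φ₁ φ₂ : B →+* C} {φ₁' φ₂' : B' →+* C'} {β : B →+* B'} {γ : C →+* C'}
  (b : B) (hb : φ₁ b = φ₂ b)
  (h₁ : φ₁'.comp β = γ.comp φ₁) (h₂ : φ₂'.comp β = γ.comp φ₂)

include hb h₁ h₂ in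
/-- Elements of the equalizer of the localizations come from the equalizer. -/
theorem exists_eq (hB : let := β.toAlgebra; IsLocalization.Away b B')
    (hC : let := γ.toAlgebra; IsLocalization.Away (φ₁ b) C') (x : B') (hx : φ₁' x = φ₂' x) :
    ∃ (y : B) (n : ℕ), φ₁ y = φ₂ y ∧ x * β b ^ n = β y := by
  let := β.toAlgebra
  let := γ.toAlgebra
  obtain ⟨n, y, hy⟩ := IsLocalization.Away.surj b x
  have hy' : x * β b ^ n = β y := by rw [← map_pow]; simpa [RingHom.algebraMap_toAlgebra] using hy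
  have e1 : γ (φ₁ y) = γ (φ₂ y) := by
    have a1 : φ₁' (β y) = γ (φ₁ y) := congrArg (fun t => t y) (congrArg DFunLike.coe h₁)
    have a2 : φ₂' (β y) = γ (φ₂ y) := congrArg (fun t => t y) (congrArg DFunLike.coe h₂)
    have a3 : φ₁' (β b) = γ (φ₁ b) := congrArg (fun t => t b) (congrArg DFunLike.coe h₁)
    have a4 : φ₂' (β b) = γ (φ₂ b) := congrArg (fun t => t b) (congrArg DFunLike.coe h₂)
    rw [← a1, ← a2, ← hy', map_mul, map_mul, map_pow, map_pow, hx, a3, a4, hb]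
  obtain ⟨m, hm⟩ := IsLocalization.Away.exists_of_eq (S := C') (φ₁ b) (a := φ₁ y) (b := φ₂ y) e1
  refine ⟨b ^ m * y, n + m, ?_, ?_⟩
  · rw [map_mul, map_mul, map_pow, map_pow, hm, hb]
  · rw [pow_add, ← mul_assoc, hy', map_mul, map_pow, mul_comm]

/-- The induced map on equalizers. -/
def eqMap : RingHom.eqLocus φ₁ φ₂ →+* RingHom.eqLocus φ₁' φ₂' :=
  β.restrict _ _ fun y hy => by
    have a1 : φ₁' (β y) = γ (φ₁ y) := congrArg (fun t => t y) (congrArg DFunLike.coe h₁)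
    have a2 : φ₂' (β y) = γ (φ₂ y) := congrArg (fun t => t y) (congrArg DFunLike.coe h₂)
    change φ₁' (β y) = φ₂' (β y)
    rw [a1, a2, show φ₁ y = φ₂ y from hy]

include h₁ h₂ in
/-- The equalizer of the localizations is the localization of the equalizer. -/
theorem isLocalization (hB : let := β.toAlgebra; IsLocalization.Away b B')
    (hC : let := γ.toAlgebra; IsLocalization.Away (φ₁ b) C')
    (ρ : RingHom.eqLocus φ₁ φ₂ →+* RingHom.eqLocus φ₁' φ₂') (hρ : ∀ y, (ρ y : B') = β y) :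
    let := ρ.toAlgebra
    IsLocalization.Away (⟨b, hb⟩ : RingHom.eqLocus φ₁ φ₂) (RingHom.eqLocus φ₁' φ₂') := by
  let := β.toAlgebra
  let := γ.toAlgebra
  let := ρ.toAlgebra
  have hu : IsUnit (β b) := IsLocalization.Away.algebraMap_isUnit (S := B') b
  refine ⟨?_, ?_, ?_⟩
  · rintro ⟨_, n, rfl⟩
    rw [map_pow]
    refine IsUnit.pow _ ?_
    obtain ⟨v, hv⟩ := hu.exists_right_inv
    have a3 : φ₁' (β b) = γ (φ₁ b) := congrArg (fun t => t b) (congrArg DFunLike.coe h₁)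
    have a4 : φ₂' (β b) = γ (φ₂ b) := congrArg (fun t => t b) (congrArg DFunLike.coe h₂)
    have a5 : φ₁' (β b) = φ₂' (β b) := by rw [a3, a4, hb]
    have hv1 : φ₁' (β b) * φ₁' v = 1 := by rw [← map_mul, hv, map_one]
    have hv2 : φ₁' (β b) * φ₂' v = 1 := by rw [a5, ← map_mul, hv, map_one]
    have hv' : φ₁' v = φ₂' v := by
      calc φ₁' v = φ₁' v * (φ₁' (β b) * φ₂' v) := by rw [hv2, mul_one]
        _ = (φ₁' (β b) * φ₁' v) * φ₂' v := by ring
        _ = φ₂' v := by rw [hv1, one_mul]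
    refine IsUnit.of_mul_eq_one ⟨v, hv'⟩ (Subtype.ext ?_)
    change (ρ ⟨b, hb⟩ : B') * v = 1
    rw [hρ]
    exact hv
  · intro x
    obtain ⟨y, n, hy, hy'⟩ := exists_eq b hb h₁ h₂ hB hC x.1 x.2
    refine ⟨(⟨y, hy⟩, ⟨_, n, rfl⟩), Subtype.ext ?_⟩
    change x.1 * (ρ (⟨b, hb⟩ ^ n) : B') = (ρ ⟨y, hy⟩ : B')
    rw [hρ, hρ]
    change x.1 * β (b ^ n) = β y
    rw [map_pow, hy']
  · intro x y hxy
    have h : β x = β y := by
      rw [← hρ, ← hρ]
      exact congrArg Subtype.val hxy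
    obtain ⟨m, hm⟩ := IsLocalization.Away.exists_of_eq (S := B') b (a := x.1) (b := y.1) h
    exact ⟨⟨_, m, rfl⟩, Subtype.ext hm⟩

end K392.EqLoc
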