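import Mathlib.AlgebraicGeometry.Morphisms.Affine
import Groth.Agent.Grpd.K392.EqLoc

/-!
# When the structure sheaf is the equalizer of two direct images
-/

set_option autoImplicit false
universe u

open CategoryTheory Limits AlgebraicGeometry Opposite TopologicalSpace

namespace K392.EqSheaf

variable {X Y R : Scheme.{u}} (p₁ p₂ : R ⟶ X) (q : X ⟶ Y)

/-- The sections of `Y` over `V` are the equalizer of the sections of `X` and `R`. -/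
structure SecEq (V : Y.Opens) (W : X.Opens) (O : R.Opens) : Prop where
  hW : W = q ⁻¹ᵁ V
  hO₁ : O = p₁ ⁻¹ᵁ W
  hO₂ : O = p₂ ⁻¹ᵁ W
  w : ∀ (e : W ≤ q ⁻¹ᵁ V) (e₁ : O ≤ p₁ ⁻¹ᵁ W) (e₂ : O ≤ p₂ ⁻¹ᵁ W) (t : Γ(Y, V)),
    p₁.appLE W O e₁ (q.appLE V W e t) = p₂.appLE W O e₂ (q.appLE V W e t)
  inj : ∀ (e : W ≤ q ⁻¹ᵁ V), Function.Injective (q.appLE V W e)
  surj : ∀ (e : W ≤ q ⁻¹ᵁ V) (e₁ : O ≤ p₁ ⁻¹ᵁ W) (e₂ : O ≤ p₂ ⁻¹ᵁ W) (s : Γ(X, W)),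
    p₁.appLE W O e₁ s = p₂.appLE W O e₂ s → ∃ t, q.appLE V W e t = s

theorem appLE_w (w : p₁ ≫ q = p₂ ≫ q) (V : Y.Opens) (W : X.Opens) (O : R.Opens)
    (e : W ≤ q ⁻¹ᵁ V) (e₁ : O ≤ p₁ ⁻¹ᵁ W) (e₂ : O ≤ p₂ ⁻¹ᵁ W) :
    q.appLE V W e ≫ p₁.appLE W O e₁ = q.appLE V W e ≫ p₂.appLE W O e₂ := by
  rw [Scheme.Hom.appLE_comp_appLE, Scheme.Hom.appLE_comp_appLE]
  simp only [w]

theorem isLocalization_of_eq {T : Scheme.{u}} {O O' : T.Opens} (hO : IsAffineOpen O)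
    (s : Γ(T, O)) (hle : O' ≤ O) (e : O' = T.basicOpen s) :
    letI : Algebra Γ(T, O) Γ(T, O') := (T.presheaf.map (homOfLE hle).op).hom.toAlgebra
    IsLocalization.Away s Γ(T, O') := by
  subst e
  exact hO.isLocalization_basicOpen s

theorem basicOpen_appLE {T Z : Scheme.{u}} (t : T ⟶ Z) {V : Z.Opens} {W : T.Opens}
    (e : W ≤ t ⁻¹ᵁ V) (hW : W = t ⁻¹ᵁ V) (b : Γ(Z, V)) :
    T.basicOpen (t.appLE V W e b) = t ⁻¹ᵁ Z.basicOpen b := by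
  subst hW
  rw [Scheme.preimage_basicOpen, Scheme.Hom.app_eq_appLE]

variable {p₁ p₂ q}

theorem SecEq.basicOpen (w : p₁ ≫ q = p₂ ≫ q) {V : Y.Opens} {W : X.Opens} {O : R.Opens}
    (h : SecEq p₁ p₂ q V W O) (hV : IsAffineOpen V) (hW : IsAffineOpen W) (hO : IsAffineOpen O)
    (b : Γ(Y, V)) :
    SecEq p₁ p₂ q (Y.basicOpen b) (X.basicOpen (q.appLE V W h.hW.le b))
      (R.basicOpen (p₁.appLE W O h.hO₁.le (q.appLE V W h.hW.le b))) := by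
  set b' := q.appLE V W h.hW.le b with hb'
  have hwb : p₁.appLE W O h.hO₁.le b' = p₂.appLE W O h.hO₂.le b' := h.w _ _ _ b
  set c := p₁.appLE W O h.hO₁.le b' with hc
  have e0 : X.basicOpen b' = q ⁻¹ᵁ Y.basicOpen b := basicOpen_appLE q h.hW.le h.hW b
  have e1 : R.basicOpen c = p₁ ⁻¹ᵁ X.basicOpen b' := basicOpen_appLE p₁ h.hO₁.le h.hO₁ b'
  have e2 : R.basicOpen c = p₂ ⁻¹ᵁ X.basicOpen b' := by
    rw [hwb]
    exact basicOpen_appLE p₂ h.hO₂.le h.hO₂ b'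
  let iY : Γ(Y, V) ⟶ Γ(Y, Y.basicOpen b) := Y.presheaf.map (homOfLE (Y.basicOpen_le b)).op
  let iX : Γ(X, W) ⟶ Γ(X, X.basicOpen b') := X.presheaf.map (homOfLE (X.basicOpen_le b')).op
  let iR : Γ(R, O) ⟶ Γ(R, R.basicOpen c) := R.presheaf.map (homOfLE (R.basicOpen_le c)).op
  have lY := hV.isLocalization_basicOpen b
  have lX := hW.isLocalization_basicOpen b'
  have lR := hO.isLocalization_basicOpen c
  have sq : ∀ e, iY ≫ q.appLE (Y.basicOpen b) (X.basicOpen b') e = q.appLE V W h.hW.le ≫ iX := by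
    intro e
    rw [Scheme.Hom.map_appLE, Scheme.Hom.appLE_map]
  have sq1 : ∀ e, iX ≫ p₁.appLE (X.basicOpen b') (R.basicOpen c) e =
      p₁.appLE W O h.hO₁.le ≫ iR := by
    intro e
    rw [Scheme.Hom.map_appLE, Scheme.Hom.appLE_map]
  have sq2 : ∀ e, iX ≫ p₂.appLE (X.basicOpen b') (R.basicOpen c) e =
      p₂.appLE W O h.hO₂.le ≫ iR := by
    intro e
    rw [Scheme.Hom.map_appLE, Scheme.Hom.appLE_map]
  let _ := iY.hom.toAlgebra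
  let _ := iX.hom.toAlgebra
  let _ := iR.hom.toAlgebra
  have uY : IsUnit (iY b) := IsLocalization.Away.algebraMap_isUnit (S := Γ(Y, Y.basicOpen b)) b
  refine ⟨e0, e1, e2, ?_, ?_, ?_⟩
  · intro e e₁ e₂ t
    exact congr($(appLE_w p₁ p₂ q w _ _ _ e e₁ e₂) t)
  · intro e
    rw [← RingHom.coe_coe, injective_iff_map_eq_zero]
    intro t ht
    obtain ⟨n, t₀, ht₀⟩ := IsLocalization.Away.surj b t
    have ht₀' : t * iY b ^ n = iY t₀ := ht₀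
    have h1 : iX (q.appLE V W h.hW.le t₀) = 0 := by
      have := congr($(sq e) t₀)
      rw [ConcreteCategory.comp_apply, ConcreteCategory.comp_apply] at this
      rw [← this, ← ht₀', map_mul]
      have ht' : q.appLE (Y.basicOpen b) (X.basicOpen b') e t = 0 := ht
      rw [ht', zero_mul]
    have h1' : algebraMap Γ(X, W) Γ(X, X.basicOpen b') (q.appLE V W h.hW.le t₀) =
        algebraMap Γ(X, W) Γ(X, X.basicOpen b') 0 := by rw [map_zero]; exact h1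
    obtain ⟨m, hm⟩ := IsLocalization.Away.exists_of_eq (S := Γ(X, X.basicOpen b')) b' h1'
    rw [mul_zero, hb', ← map_pow, ← map_mul] at hm
    have h2 : b ^ m * t₀ = 0 := h.inj h.hW.le (by rw [hm, map_zero])
    have h3 : iY b ^ m * iY t₀ = 0 := by rw [← map_pow, ← map_mul, h2, map_zero]
    rw [← ht₀', mul_comm t, ← mul_assoc, ← pow_add] at h3
    exact ((uY.pow _).mul_right_eq_zero).mp h3
  · intro e e₁ e₂ s hs
    obtain ⟨y, n, hy, hy'⟩ := EqLoc.exists_eq (φ₁ := (p₁.appLE W O h.hO₁.le).hom)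
      (φ₂ := (p₂.appLE W O h.hO₂.le).hom)
      (φ₁' := (p₁.appLE (X.basicOpen b') (R.basicOpen c) e₁).hom)
      (φ₂' := (p₂.appLE (X.basicOpen b') (R.basicOpen c) e₂).hom) (β := iX.hom) (γ := iR.hom)
      b' hwb (congrArg CommRingCat.Hom.hom (sq1 e₁)) (congrArg CommRingCat.Hom.hom (sq2 e₂))
      lX lR s hs
    obtain ⟨t₀, ht₀⟩ := h.surj h.hW.le h.hO₁.le h.hO₂.le y hy
    obtain ⟨v, hv⟩ := (uY.pow n).exists_right_inv
    refine ⟨iY t₀ * v, ?_⟩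
    have hsq : ∀ z, q.appLE (Y.basicOpen b) (X.basicOpen b') e (iY z) =
        iX (q.appLE V W h.hW.le z) := fun z => congr($(sq e) z)
    have h4 : (iX b') ^ n * q.appLE (Y.basicOpen b) (X.basicOpen b') e v = 1 := by
      have h5 : iX b' = q.appLE (Y.basicOpen b) (X.basicOpen b') e (iY b) := (hsq b).symm
      rw [h5, ← map_pow, ← map_mul, hv, map_one]
    have hy'' : s * iX b' ^ n = iX y := hy'
    rw [map_mul, hsq, ht₀, ← hy'', mul_assoc, h4, mul_one]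

/-- The property for all open sets follows from the property on a basis. -/
theorem secEq_of_basis (w : p₁ ≫ q = p₂ ≫ q)
    (H : ∀ (V : Y.Opens) (y : Y), y ∈ V → ∃ (D : Y.Opens), D ≤ V ∧ y ∈ D ∧
      SecEq p₁ p₂ q D (q ⁻¹ᵁ D) (p₁ ⁻¹ᵁ q ⁻¹ᵁ D)) (V : Y.Opens) :
    SecEq p₁ p₂ q V (q ⁻¹ᵁ V) (p₁ ⁻¹ᵁ q ⁻¹ᵁ V) := by
  have hO : ∀ V : Y.Opens, p₁ ⁻¹ᵁ q ⁻¹ᵁ V = p₂ ⁻¹ᵁ q ⁻¹ᵁ V := by
    intro V
    rw [← Scheme.Hom.comp_preimage, w, Scheme.Hom.comp_preimage]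
  have hnat : ∀ {V V' : Y.Opens} (h : V' ≤ V) (e : q ⁻¹ᵁ V ≤ q ⁻¹ᵁ V) (e' : q ⁻¹ᵁ V' ≤ q ⁻¹ᵁ V')
      (t : Γ(Y, V)), X.presheaf.map (homOfLE (q.preimage_mono h)).op (q.appLE V (q ⁻¹ᵁ V) e t) =
        q.appLE V' (q ⁻¹ᵁ V') e' (Y.presheaf.map (homOfLE h).op t) := by
    intro V V' h e e' t
    rw [← ConcreteCategory.comp_apply, ← ConcreteCategory.comp_apply, Scheme.Hom.map_appLE,
      Scheme.Hom.appLE_map]
  -- the covering by good opens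
  let ι : Y.Opens → Type u := fun V => {D : Y.Opens // D ≤ V ∧
      SecEq p₁ p₂ q D (q ⁻¹ᵁ D) (p₁ ⁻¹ᵁ q ⁻¹ᵁ D)}
  have hcov : ∀ V : Y.Opens, V ≤ iSup (fun D : ι V => D.1) := by
    intro V y hy
    obtain ⟨D, hD, hyD, hD'⟩ := H V y hy
    exact Opens.mem_iSup.mpr ⟨⟨D, hD, hD'⟩, hyD⟩
  have hinj : ∀ (V : Y.Opens) (e : q ⁻¹ᵁ V ≤ q ⁻¹ᵁ V), Function.Injective (q.appLE V (q ⁻¹ᵁ V) e) := by
    intro V e t t' htt'
    refine Y.sheaf.eq_of_locally_eq' (fun D : ι V => D.1) V (fun D => homOfLE D.2.1) (hcov V) t t'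
      fun D => D.2.2.inj le_rfl ?_
    have h1 := hnat D.2.1 e le_rfl t
    have h2 := hnat D.2.1 e le_rfl t'
    rw [htt'] at h1
    exact h1.symm.trans h2
  refine ⟨rfl, rfl, hO V, fun e e₁ e₂ t => congr($(appLE_w p₁ p₂ q w _ _ _ e e₁ e₂) t),
    hinj V, ?_⟩
  intro e e₁ e₂ s hs
  have hex : ∀ D : ι V, ∃ t : Γ(Y, D.1), q.appLE D.1 (q ⁻¹ᵁ D.1) le_rfl t =
      X.presheaf.map (homOfLE (q.preimage_mono D.2.1)).op s := by
    intro D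
    refine D.2.2.surj le_rfl le_rfl (hO D.1).le _ ?_
    have a1 : p₁ ⁻¹ᵁ q ⁻¹ᵁ D.1 ≤ p₁ ⁻¹ᵁ q ⁻¹ᵁ V := p₁.preimage_mono (q.preimage_mono D.2.1)
    rw [← ConcreteCategory.comp_apply, ← ConcreteCategory.comp_apply, Scheme.Hom.map_appLE,
      Scheme.Hom.map_appLE]
    have b1 : p₁.appLE (q ⁻¹ᵁ V) (p₁ ⁻¹ᵁ q ⁻¹ᵁ D.1) (a1.trans e₁) =
        p₁.appLE (q ⁻¹ᵁ V) (p₁ ⁻¹ᵁ q ⁻¹ᵁ V) e₁ ≫ R.presheaf.map (homOfLE a1).op := by
      rw [Scheme.Hom.appLE_map]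
    have b2 : p₂.appLE (q ⁻¹ᵁ V) (p₁ ⁻¹ᵁ q ⁻¹ᵁ D.1) (a1.trans e₂) =
        p₂.appLE (q ⁻¹ᵁ V) (p₁ ⁻¹ᵁ q ⁻¹ᵁ V) e₂ ≫ R.presheaf.map (homOfLE a1).op := by
      rw [Scheme.Hom.appLE_map]
    change p₁.appLE (q ⁻¹ᵁ V) (p₁ ⁻¹ᵁ q ⁻¹ᵁ D.1) (a1.trans e₁) s =
      p₂.appLE (q ⁻¹ᵁ V) (p₁ ⁻¹ᵁ q ⁻¹ᵁ D.1) (a1.trans e₂) s
    rw [b1, b2, ConcreteCategory.comp_apply, ConcreteCategory.comp_apply, hs]
  choose t ht using hex
  obtain ⟨T, hT, -⟩ := Y.sheaf.existsUnique_gluing' (fun D : ι V => D.1) V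
    (fun D => homOfLE D.2.1) (hcov V) t (by
      intro D D'
      refine hinj (D.1 ⊓ D'.1) le_rfl ?_
      have h1 := hnat (V := D.1) (V' := D.1 ⊓ D'.1) inf_le_left le_rfl le_rfl (t D)
      have h2 := hnat (V := D'.1) (V' := D.1 ⊓ D'.1) inf_le_right le_rfl le_rfl (t D')
      refine h1.symm.trans (Eq.trans ?_ h2)
      rw [ht, ht, ← ConcreteCategory.comp_apply, ← ConcreteCategory.comp_apply,
        ← X.presheaf.map_comp, ← X.presheaf.map_comp]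
      rfl)
  refine ⟨T, ?_⟩
  refine X.sheaf.eq_of_locally_eq' (fun D : ι V => q ⁻¹ᵁ D.1) (q ⁻¹ᵁ V)
    (fun D => homOfLE (q.preimage_mono D.2.1)) ?_ _ _ fun D => ?_
  · intro x hx
    obtain ⟨D, hD⟩ := Opens.mem_iSup.mp (hcov V hx)
    exact Opens.mem_iSup.mpr ⟨D, hD⟩
  · have h1 := hnat D.2.1 e le_rfl T
    exact h1.trans ((congrArg _ (hT D)).trans (ht D))

end K392.EqSheaf
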