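import Mathlib.Geometry.RingedSpace.SheafedSpace
import Mathlib.Algebra.Category.Ring.Constructions
import Mathlib.AlgebraicGeometry.Scheme
import Groth.Agent.Grpd.K392.EqSheaf

/-!
# Recognizing coequalizers of ringed spaces
-/

set_option autoImplicit false
universe u

open CategoryTheory Limits AlgebraicGeometry Opposite TopologicalSpace

namespace K392.EqColim

noncomputable section

variable {X Y R Z : SheafedSpace.{_, _, u} CommRingCat.{u}} {p₁ p₂ : R ⟶ X} {q : X ⟶ Y}

theorem map_map {T : TopCat.{u}} (F : (Opens T)ᵒᵖ ⥤ CommRingCat.{u}) {U V W : (Opens T)ᵒᵖ}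
    (i : U ⟶ V) (j : V ⟶ W) (k : U ⟶ W) (s : F.obj U) : F.map j (F.map i s) = F.map k s := by
  rw [← ConcreteCategory.comp_apply, ← F.map_comp]
  rfl

theorem map_self {T : TopCat.{u}} (F : (Opens T)ᵒᵖ ⥤ CommRingCat.{u}) {U : (Opens T)ᵒᵖ}
    (i : U ⟶ U) (s : F.obj U) : F.map i s = s := by
  have : i = 𝟙 U := rfl
  rw [this, F.map_id]
  rfl

/-- The data of the recognition theorem. -/
structure IsQuot (p₁ p₂ : R ⟶ X) (q : X ⟶ Y) : Prop where
  w : p₁ ≫ q = p₂ ≫ q
  top : Topology.IsQuotientMap q.hom.base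
  rel : ∀ x x' : X, q.hom.base x = q.hom.base x' → ∃ r : R, p₁.hom.base r = x ∧ p₂.hom.base r = x'
  inj : ∀ V : Opens Y, Function.Injective (q.hom.c.app (op V))
  surj : ∀ (V : Opens Y)
    (s : X.presheaf.obj (op ((Opens.map q.hom.base).obj V)))
    (e : op ((Opens.map p₂.hom.base).obj ((Opens.map q.hom.base).obj V)) ⟶
      op ((Opens.map p₁.hom.base).obj ((Opens.map q.hom.base).obj V))),
    p₁.hom.c.app _ s = R.presheaf.map e (p₂.hom.c.app _ s) → ∃ t, q.hom.c.app (op V) t = s

variable (h : IsQuot p₁ p₂ q) (a : X ⟶ Z) (ha : p₁ ≫ a = p₂ ≫ a)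

include ha in
theorem base_eq (r : R) : a.hom.base (p₁.hom.base r) = a.hom.base (p₂.hom.base r) := by
  have := congrArg (fun t => t.hom.base r) ha
  exact this

include h ha in
theorem const {x x' : X} (hx : q.hom.base x = q.hom.base x') : a.hom.base x = a.hom.base x' := by
  obtain ⟨r, rfl, rfl⟩ := h.rel x x' hx
  exact base_eq a ha r

/-- The continuous map. -/
def desc : (Y : TopCat.{u}) ⟶ (Z : TopCat.{u}) :=
  TopCat.ofHom (h.top.lift a.hom.base.hom (fun _ _ => const h a ha))

theorem q_desc : q.hom.base ≫ desc h a ha = a.hom.base := by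
  ext x
  exact congrArg (fun t => t x) (h.top.lift_comp a.hom.base.hom (fun _ _ => const h a ha))

theorem pre_eq (W : Opens Z) : (Opens.map q.hom.base).obj ((Opens.map (desc h a ha)).obj W) =
    (Opens.map a.hom.base).obj W := by
  rw [← Opens.map_comp_obj, q_desc]

/-- transported sections -/
def ρ (W : Opens Z) : Z.presheaf.obj (op W) ⟶
    X.presheaf.obj (op ((Opens.map q.hom.base).obj ((Opens.map (desc h a ha)).obj W))) :=
  a.hom.c.app (op W) ≫ X.presheaf.map (eqToHom (pre_eq h a ha W)).op

theorem exists_lift (W : Opens Z) (z : Z.presheaf.obj (op W)) :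
    ∃ t, q.hom.c.app (op ((Opens.map (desc h a ha)).obj W)) t = ρ h a ha W z := by
  have hw : ∀ V : Opens Y, (Opens.map p₁.hom.base).obj ((Opens.map q.hom.base).obj V) =
      (Opens.map p₂.hom.base).obj ((Opens.map q.hom.base).obj V) := by
    intro V
    have := congrArg (fun t => t.hom.base) h.w
    change p₁.hom.base ≫ q.hom.base = p₂.hom.base ≫ q.hom.base at this
    rw [← Opens.map_comp_obj, ← Opens.map_comp_obj, this]
  refine h.surj _ _ (eqToHom (hw _)).op ?_
  have h1 := PresheafedSpace.congr_app (congrArg InducedCategory.Hom.hom ha) (op W)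
  have h2 := congr($h1 z)
  change p₁.hom.c.app _ (a.hom.c.app _ z) = R.presheaf.map _ (p₂.hom.c.app _ (a.hom.c.app _ z)) at h2
  have n1 := congr($(p₁.hom.c.naturality (eqToHom (pre_eq h a ha W)).op) (a.hom.c.app _ z))
  have n2 := congr($(p₂.hom.c.naturality (eqToHom (pre_eq h a ha W)).op) (a.hom.c.app _ z))
  change p₁.hom.c.app _ (ρ h a ha W z) = R.presheaf.map _ (p₁.hom.c.app _ (a.hom.c.app _ z)) at n1
  change p₂.hom.c.app _ (ρ h a ha W z) = R.presheaf.map _ (p₂.hom.c.app _ (a.hom.c.app _ z)) at n2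
  rw [n1, n2, h2]
  have k : op ((Opens.map p₂.hom.base).obj ((Opens.map a.hom.base).obj W)) ⟶
      op ((Opens.map p₁.hom.base).obj ((Opens.map q.hom.base).obj
        ((Opens.map (desc h a ha)).obj W))) := by
    refine (eqToHom ?_).op
    rw [hw, pre_eq h a ha W]
  exact (map_map R.presheaf _ _ k _).trans (map_map R.presheaf _ _ k _).symm

/-- The lift of a section. -/
def lft (W : Opens Z) (z : Z.presheaf.obj (op W)) :
    Y.presheaf.obj (op ((Opens.map (desc h a ha)).obj W)) := (exists_lift h a ha W z).choose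

theorem lft_spec (W : Opens Z) (z : Z.presheaf.obj (op W)) :
    q.hom.c.app (op ((Opens.map (desc h a ha)).obj W)) (lft h a ha W z) = ρ h a ha W z :=
  (exists_lift h a ha W z).choose_spec

/-- The lift on sections as a ring map. -/
def lftHom (W : Opens Z) : Z.presheaf.obj (op W) ⟶
    Y.presheaf.obj (op ((Opens.map (desc h a ha)).obj W)) :=
  CommRingCat.ofHom
    { toFun := lft h a ha W
      map_one' := h.inj _ (by rw [lft_spec, map_one, map_one])
      map_zero' := h.inj _ (by rw [lft_spec, map_zero, map_zero])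
      map_add' := fun x y => h.inj _ (by
        rw [lft_spec, map_add, map_add, lft_spec, lft_spec])
      map_mul' := fun x y => h.inj _ (by
        rw [lft_spec, map_mul, map_mul, lft_spec, lft_spec]) }

/-- The descended morphism. -/
def descHom : Y ⟶ Z := ⟨{ 
  base := desc h a ha
  c := { 
    app := fun W => lftHom h a ha W.unop
    naturality := by
      intro W W' i
      ext z
      refine h.inj _ ?_
      have n1 := congr($(q.hom.c.naturality ((Opens.map (desc h a ha)).map i.unop).op)
        (lft h a ha W.unop z))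
      have n2 := congr($(a.hom.c.naturality i) z)
      change q.hom.c.app _ (lft h a ha W'.unop (Z.presheaf.map i z)) =
        q.hom.c.app _ (Y.presheaf.map _ (lft h a ha W.unop z))
      rw [lft_spec]
      refine Eq.trans ?_ n1.symm
      change X.presheaf.map _ (a.hom.c.app _ (Z.presheaf.map i z)) =
        X.presheaf.map _ (q.hom.c.app _ (lft h a ha W.unop z))
      rw [lft_spec]
      refine (congrArg (X.presheaf.map (eqToHom (pre_eq h a ha W'.unop)).op) n2).trans ?_
      change X.presheaf.map _ (X.presheaf.map _ (a.hom.c.app _ z)) =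
        X.presheaf.map _ (X.presheaf.map _ (a.hom.c.app _ z))
      have k : W ⟶ W' := i
      exact (map_map X.presheaf _ _ ((Opens.map a.hom.base).op.map i ≫
        (eqToHom (pre_eq h a ha W'.unop)).op) _).trans (map_map X.presheaf _ _ _ _).symm } }⟩

theorem q_descHom : q ≫ descHom h a ha = a := by
  refine InducedCategory.Hom.ext (PresheafedSpace.ext _ _ (q_desc h a ha) ?_)
  ext W z
  change X.presheaf.map _ (q.hom.c.app _ (lft h a ha W z)) = a.hom.c.app _ z
  rw [lft_spec]
  change X.presheaf.map _ (X.presheaf.map _ (a.hom.c.app _ z)) = a.hom.c.app _ z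
  exact (map_map X.presheaf _ _ (𝟙 _) _).trans (map_self X.presheaf _ _)

include h in
theorem hom_ext {b b' : Y ⟶ Z} (hb : q ≫ b = q ≫ b') : b = b' := by
  have hbase : b.hom.base = b'.hom.base := by
    ext y
    obtain ⟨x, rfl⟩ := h.top.surjective y
    exact congrArg (fun t => t.hom.base x) hb
  refine InducedCategory.Hom.ext (PresheafedSpace.ext _ _ hbase ?_)
  ext W z
  refine h.inj _ ?_
  have h1 := congr($(PresheafedSpace.congr_app (congrArg InducedCategory.Hom.hom hb) (op W)) z)
  change q.hom.c.app _ (b.hom.c.app _ z) = X.presheaf.map _ (q.hom.c.app _ (b'.hom.c.app _ z)) at h1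
  have n1 : ∀ (i : op ((Opens.map b.hom.base).obj W) ⟶ op ((Opens.map b'.hom.base).obj W)),
      q.hom.c.app _ (Y.presheaf.map i (b.hom.c.app _ z)) = X.presheaf.map
        ((Opens.map q.hom.base).op.map i) (q.hom.c.app _ (b.hom.c.app (op W) z)) :=
    fun i => congr($(q.hom.c.naturality i) _)
  change q.hom.c.app _ (Y.presheaf.map _ (b.hom.c.app _ z)) = q.hom.c.app _ (b'.hom.c.app _ z)
  refine (n1 _).trans ((congrArg (X.presheaf.map _) h1).trans ?_)
  exact (map_map X.presheaf _ _ (𝟙 _) _).trans (map_self X.presheaf _ _)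

include h in
theorem IsQuot.nonempty_isColimit (w : p₁ ≫ q = p₂ ≫ q) :
    Nonempty (IsColimit (Cofork.ofπ q w)) :=
  ⟨Cofork.IsColimit.mk' _ fun s => ⟨descHom h s.π s.condition, q_descHom h s.π s.condition,
    fun hm => hom_ext h (hm.trans (q_descHom h s.π s.condition).symm)⟩⟩

end

end K392.EqColim
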