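import Groth.Agent.Grpd.K392.EqProps
import Groth.Agent.Grpd.K392.EqColim

/-!
# Quotients of integral schemes with finite fibres
-/

set_option autoImplicit false
universe u

open CategoryTheory Limits AlgebraicGeometry Opposite TopologicalSpace
open K392.EqQuot K392.EqSheaf K392.EqProps K392.EqPts K392.EqColim

namespace K392.EqFinal

variable {S X R : Scheme.{u}} (d : Dat S X R)

section aff

variable [IsAffineHom d.f] [IsAffineHom d.g]

theorem secEq_chart {U : S.Opens} (hU : IsAffineOpen U) :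
    SecEq d.p₁ d.p₂ d.q (d.h ⁻¹ᵁ U) (d.f ⁻¹ᵁ U) (d.g ⁻¹ᵁ U) := by
  let U' : S.AffineZariskiSite := ⟨U, hU⟩
  have h1 : ∀ e, d.q.appLE (d.h ⁻¹ᵁ U) (d.f ⁻¹ᵁ U) e =
      d.sec U' ≫ CommRingCat.ofHom (d.eqR U'.toOpens).subtype := fun e => d.q_appLE U'
  refine ⟨?_, ?_, ?_, ?_, ?_, ?_⟩
  · rw [← Scheme.Hom.comp_preimage, d.q_h]
  · rw [← Scheme.Hom.comp_preimage, d.hp₁]
  · rw [← Scheme.Hom.comp_preimage, d.hp₂]
  · intro e e₁ e₂ t
    exact congr($(appLE_w d.p₁ d.p₂ d.q (EqProps.w d) _ _ _ e e₁ e₂) t)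
  · intro e t t' htt'
    rw [h1] at htt'
    exact (ConcreteCategory.bijective_of_isIso (d.sec U')).1 (Subtype.val_injective htt')
  · intro e e₁ e₂ s hs
    obtain ⟨t, ht⟩ := (ConcreteCategory.bijective_of_isIso (d.sec U')).2
      (⟨s, hs⟩ : d.eqR U'.toOpens)
    refine ⟨t, ?_⟩
    rw [h1, ConcreteCategory.comp_apply, ht]
    rfl

theorem secEq (V : d.Y.Opens) :
    SecEq d.p₁ d.p₂ d.q V (d.q ⁻¹ᵁ V) (d.p₁ ⁻¹ᵁ d.q ⁻¹ᵁ V) := by
  refine secEq_of_basis (EqProps.w d) (fun V y hy => ?_) V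
  obtain ⟨U, hU, hs, -⟩ := exists_isAffineOpen_mem_and_subset (U := ⊤) (x := d.h y) trivial
  have hV₀ : IsAffineOpen (d.h ⁻¹ᵁ U) := hU.preimage d.h
  have h0 := secEq_chart d hU
  obtain ⟨b, hb, hyb⟩ := hV₀.exists_basicOpen_le ⟨y, hy⟩ hs
  have h1 := h0.basicOpen (EqProps.w d) hV₀ (hU.preimage d.f) (hU.preimage d.g) b
  refine ⟨d.Y.basicOpen b, hb, hyb, ?_⟩
  have e1 := h1.hW
  have e2 := h1.hO₁
  rw [e2, e1] at h1
  exact h1

theorem app_inj (V : d.Y.Opens) : Function.Injective (d.q.app V) := by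
  have := (secEq d V).inj le_rfl
  rw [← Scheme.Hom.app_eq_appLE] at this
  exact this

theorem app_surj (V : d.Y.Opens) (s : Γ(X, d.q ⁻¹ᵁ V))
    (e : op (d.p₂ ⁻¹ᵁ d.q ⁻¹ᵁ V) ⟶ op (d.p₁ ⁻¹ᵁ d.q ⁻¹ᵁ V))
    (hs : d.p₁.app (d.q ⁻¹ᵁ V) s = R.presheaf.map e (d.p₂.app (d.q ⁻¹ᵁ V) s)) :
    ∃ t, d.q.app V t = s := by
  have h := secEq d V
  obtain ⟨t, ht⟩ := h.surj le_rfl le_rfl h.hO₂.le s (by
    rw [← Scheme.Hom.app_eq_appLE]
    exact hs)
  rw [← Scheme.Hom.app_eq_appLE] at ht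
  exact ⟨t, ht⟩

end aff

/-- The functor from schemes to ringed spaces. -/
abbrev RS : Scheme.{u} ⥤ SheafedSpace.{_, _, u} CommRingCat.{u} :=
  Scheme.forgetToLocallyRingedSpace ⋙ LocallyRingedSpace.forgetToSheafedSpace

variable [IsIntegralHom d.f] [IsIntegralHom d.g]

theorem isQuot (hfin : ∀ s : S, (d.f ⁻¹' {s}).Finite) (heqv : Equivalence (Rel d)) :
    IsQuot (RS.map d.p₁) (RS.map d.p₂) (RS.map d.q) where
  w := by rw [← Functor.map_comp, ← Functor.map_comp, EqProps.w d]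
  top := isQuotientMap_q d
  rel x x' h := rel_of_q_eq d hfin heqv h
  inj V := app_inj d V
  surj V s e hs := app_surj d V s e hs

end K392.EqFinal
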