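import Groth.Agent.Grpd.K392.EqPts

/-!
# Properties of the quotient by the equalizer
-/

set_option autoImplicit false
universe u

open CategoryTheory Limits AlgebraicGeometry Opposite
open AlgebraicGeometry.Scheme.AffineZariskiSite AlgebraicGeometry.Scheme
open Groth.Agent.CohqB Groth.Agent.CalgA

namespace K392.EqProps

/-- Two morphisms with values in an affine open are equal on an open when they agree on
sections. -/
theorem ι_comp_eq {T Z : Scheme.{u}} (a b : T ⟶ Z) {V : Z.Opens} (hV : IsAffineOpen V)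
    {W : T.Opens} (ha : W ≤ a ⁻¹ᵁ V) (hb : W ≤ b ⁻¹ᵁ V) (h : a.appLE V W ha = b.appLE V W hb) :
    W.ι ≫ a = W.ι ≫ b := by
  have key : ∀ (c : T ⟶ Z) (hc : W ≤ c ⁻¹ᵁ V),
      W.toSpecΓ ≫ Spec.map (c.appLE V W hc) ≫ hV.fromSpec = W.ι ≫ c := by
    intro c hc
    rw [← Category.assoc, Scheme.Opens.toSpecΓ_SpecMap_appLE, Category.assoc,
      hV.toSpecΓ_fromSpec, Scheme.Hom.resLE_comp_ι]
  rw [← key a ha, ← key b hb, h]

/-- Morphisms over `S` to a scheme affine over `S` are determined by their effect on sections. -/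
theorem hom_ext_over {S T Z : Scheme.{u}} (h : Z ⟶ S) [IsAffineHom h] (t : T ⟶ S) (a b : T ⟶ Z)
    (ha : a ≫ h = t) (hb : b ≫ h = t)
    (H : ∀ (U : S.Opens) (_ : IsAffineOpen U) (ha : t ⁻¹ᵁ U ≤ a ⁻¹ᵁ (h ⁻¹ᵁ U))
      (hb : t ⁻¹ᵁ U ≤ b ⁻¹ᵁ (h ⁻¹ᵁ U)),
      a.appLE (h ⁻¹ᵁ U) (t ⁻¹ᵁ U) ha = b.appLE (h ⁻¹ᵁ U) (t ⁻¹ᵁ U) hb) : a = b := by
  refine Scheme.Cover.hom_ext (T.openCoverOfIsOpenCover _
    (.comap (iSup_affineOpens_eq_top S) t.base.hom)) _ _ fun U ↦ ?_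
  have ha' : t ⁻¹ᵁ U.1 ≤ a ⁻¹ᵁ (h ⁻¹ᵁ U.1) := by rw [← Scheme.Hom.comp_preimage, ha]
  have hb' : t ⁻¹ᵁ U.1 ≤ b ⁻¹ᵁ (h ⁻¹ᵁ U.1) := by rw [← Scheme.Hom.comp_preimage, hb]
  exact ι_comp_eq a b (U.2.preimage h) ha' hb' (H U.1 U.2 ha' hb')

section

open K392.EqQuot

variable {S X R : Scheme.{u}} (d : Dat S X R)

section aff

variable [IsAffineHom d.f] [IsAffineHom d.g]

@[reassoc]
theorem w : d.p₁ ≫ d.q = d.p₂ ≫ d.q := by
  refine hom_ext_over d.h d.g _ _ (by rw [Category.assoc, d.q_h, d.hp₁])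
    (by rw [Category.assoc, d.q_h, d.hp₂]) fun U hU ha hb => ?_
  let U' : S.AffineZariskiSite := ⟨U, hU⟩
  rw [← Scheme.Hom.appLE_comp_appLE d.p₁ d.q (d.h ⁻¹ᵁ U) (d.f ⁻¹ᵁ U) (d.g ⁻¹ᵁ U) (d.q_le U)
    (d.le₁ U), ← Scheme.Hom.appLE_comp_appLE d.p₂ d.q (d.h ⁻¹ᵁ U) (d.f ⁻¹ᵁ U) (d.g ⁻¹ᵁ U)
    (d.q_le U) (d.le₂ U)]
  have h1 := d.q_appLE U'
  change d.q.appLE (d.h ⁻¹ᵁ U) (d.f ⁻¹ᵁ U) (d.q_le U) = _ at h1
  rw [h1, Category.assoc, Category.assoc]
  congr 1
  ext y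
  exact y.2

end aff

variable [IsIntegralHom d.f] [IsIntegralHom d.g]

set_option backward.isDefEq.respectTransparency.types false in
instance : IsIntegralHom d.h := by
  refine RelSpec.toBase_of_spec d.coequifibered @IsIntegralHom fun U => ?_
  rw [IsIntegralHom.SpecMap_iff]
  have h1 : (d.f.app U.toOpens).hom.IsIntegral := IsIntegralHom.isIntegral_app d.f _ U.2
  have h2 : RelSpec.str d.α U ≫ CommRingCat.ofHom (d.eqR U.toOpens).subtype = d.f.app U.toOpens :=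
    d.liftData.comp U
  intro y
  obtain ⟨P, hP, hP'⟩ := h1 y.1
  refine ⟨P, hP, ?_⟩
  apply Subtype.ext
  rw [← h2] at hP'
  change (d.eqR U.toOpens).subtype (Polynomial.eval₂ _ _ _) = _
  rw [Polynomial.hom_eval₂]
  exact hP'

instance : IsIntegralHom d.q := by
  have : IsIntegralHom (d.q ≫ d.h) := by rw [d.q_h]; infer_instance
  exact IsIntegralHom.of_comp d.q d.h

set_option backward.isDefEq.respectTransparency.types false in
instance : Surjective d.q := by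
  refine RelSpec.lift_of_spec d.coequifibered d.liftData @Surjective fun U => ?_
  have h1 : IsIntegralHom (Spec.map (d.liftData.ψ U)) := by
    rw [IsIntegralHom.SpecMap_iff]
    have h1 : (d.f.app U.toOpens).hom.IsIntegral := IsIntegralHom.isIntegral_app d.f _ U.2
    have h2 : RelSpec.str d.α U ≫ d.liftData.ψ U = d.f.app U.toOpens :=
      d.liftData.comp U
    rw [← h2] at h1
    exact RingHom.IsIntegral.tower_top _ _ h1
  rw [IsIntegralHom.SpecMap_iff] at h1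
  refine ⟨?_⟩
  exact RingHom.IsIntegral.comap_surjective h1 (Subtype.val_injective)

theorem isQuotientMap_q : Topology.IsQuotientMap d.q := by
  have h1 : IsClosedMap d.q := d.q.isClosedMap
  exact h1.isQuotientMap d.q.continuous d.q.surjective

end

end K392.EqProps
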