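import Mathlib.RingTheory.Etale.QuasiFinite
import Mathlib.RingTheory.Flat.Equalizer
import Mathlib.RingTheory.Smooth.Flat

/-!
# The equalizer of two maps of integral algebras separates equivalence classes

`A → B`, `A → C` integral, `φ₁ φ₂ : B → C` over `A`. If `E` is a set of primes of `B` over a prime
`p` of `A` which has only finitely many primes of `B` over it, and `E` is saturated for the relation
defined by `C`, then the equalizer of `φ₁` and `φ₂` separates `E` from its complement over `p`.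
-/

set_option autoImplicit false

open TensorProduct

universe u

namespace K392.EqSep

/-- Finitely many primes over `p` in an integral algebra are separated by a finite subalgebra. -/
theorem exists_finite_subalgebra {A B : Type*} [CommRing A] [CommRing B] [Algebra A B]
    [Algebra.IsIntegral A B] (p : Ideal A) (hfin : (p.primesOver B).Finite) :
    ∃ B₀ : Subalgebra A B, Module.Finite A B₀ ∧ ∀ Q ∈ p.primesOver B, ∀ Q' ∈ p.primesOver B,
      Q.comap B₀.val = Q'.comap B₀.val → Q = Q' := by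
  classical
  let b : Ideal B × Ideal B → B := fun Q =>
    if h : ∃ b, b ∈ Q.1 ∧ b ∉ Q.2 then h.choose else 0
  have hb : ∀ Q Q' : Ideal B, ¬ Q ≤ Q' → b (Q, Q') ∈ Q ∧ b (Q, Q') ∉ Q' := by
    intro Q Q' h
    have h' : ∃ b, b ∈ Q ∧ b ∉ Q' := by
      rw [SetLike.not_le_iff_exists] at h
      obtain ⟨b, hb, hb'⟩ := h
      exact ⟨b, hb, hb'⟩
    have : b (Q, Q') = h'.choose := dif_pos h'
    rw [this]
    exact h'.choose_spec
  let t : Set B := b '' (p.primesOver B ×ˢ p.primesOver B)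
  have ht : t.Finite := (hfin.prod hfin).image b
  refine ⟨Algebra.adjoin A t, ?_, ?_⟩
  · exact Algebra.finite_adjoin_of_finite_of_isIntegral ht fun x _ =>
      Algebra.IsIntegral.isIntegral x
  · intro Q hQ Q' hQ' h
    by_contra hne
    have := hQ.1
    have := hQ'.1
    have := hQ.2
    have := hQ'.2
    have hle : ¬ Q ≤ Q' := by
      intro hle
      refine hne (le_antisymm hle ?_)
      by_contra hle'
      rw [SetLike.not_le_iff_exists] at hle'
      obtain ⟨y, hy, hy'⟩ := hle'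
      have hlt := Ideal.comap_lt_comap_of_integral_mem_sdiff (R := A) (I := Q) (J := Q') hle
        ⟨hy, hy'⟩ (Algebra.IsIntegral.isIntegral y)
      have e1 : Q.comap (algebraMap A B) = p := (Ideal.LiesOver.over (P := Q) (p := p)).symm
      have e2 : Q'.comap (algebraMap A B) = p := (Ideal.LiesOver.over (P := Q') (p := p)).symm
      rw [e1, e2] at hlt
      exact lt_irrefl _ hlt
    obtain ⟨h1, h2⟩ := hb Q Q' hle
    have hmem : b (Q, Q') ∈ Algebra.adjoin A t :=
      Algebra.subset_adjoin ⟨(Q, Q'), ⟨hQ, hQ'⟩, rfl⟩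
    have h3 : (⟨b (Q, Q'), hmem⟩ : Algebra.adjoin A t) ∈ Q.comap (Algebra.adjoin A t).val := h1
    rw [h] at h3
    exact h2 h3

/-- An idempotent of an integral algebra lying in all primes over `P` is killed by an element
outside `P`. -/
theorem exists_smul_eq_zero {A D : Type*} [CommRing A] [CommRing D] [Algebra A D]
    [Algebra.IsIntegral A D] (P : Ideal A) [P.IsPrime] {w : D} (hw : IsIdempotentElem w)
    (h : ∀ Q : Ideal D, Q.IsPrime → Q.LiesOver P → w ∈ Q) : ∃ a ∉ P, a • w = 0 := by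
  let I : Ideal D := LinearMap.ker (LinearMap.mulRight D w)
  have hI : ∀ d, d ∈ I ↔ d * w = 0 := fun d => Iff.rfl
  by_contra hcon
  push Not at hcon
  have hle : I.comap (algebraMap A D) ≤ P := by
    intro a ha
    by_contra haP
    refine hcon a haP ?_
    rw [Algebra.smul_def]
    exact ha
  obtain ⟨Q, hQI, hQ, hQP⟩ := Ideal.exists_ideal_over_prime_of_isIntegral (S := D) P I hle
  have h1 : w ∈ Q := h Q hQ ⟨hQP.symm⟩
  have h2 : 1 - w ∈ Q := by
    apply hQI
    rw [hI, sub_mul, one_mul, hw.eq, sub_self]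
  exact hQ.ne_top ((Ideal.eq_top_iff_one _).mpr (by simpa using Q.add_mem h1 h2))

/-- Idempotents which agree at all primes over `P` agree near `P`. -/
theorem exists_smul_eq {A D : Type*} [CommRing A] [CommRing D] [Algebra A D]
    [Algebra.IsIntegral A D] (P : Ideal A) [P.IsPrime] {x y : D} (hx : IsIdempotentElem x)
    (hy : IsIdempotentElem y) (h : ∀ Q : Ideal D, Q.IsPrime → Q.LiesOver P → (x ∈ Q ↔ y ∈ Q)) :
    ∃ a ∉ P, a • x = a • y := by
  have key : ∀ x y : D, IsIdempotentElem x → IsIdempotentElem y →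
      (∀ Q : Ideal D, Q.IsPrime → Q.LiesOver P → (x ∈ Q ↔ y ∈ Q)) →
      ∃ a ∉ P, a • (x * (1 - y)) = 0 := by
    intro x y hx hy h
    refine exists_smul_eq_zero P (hx.mul hy.one_sub) fun Q hQ hQP => ?_
    by_cases hxQ : x ∈ Q
    · exact Q.mul_mem_right _ hxQ
    · have hyQ : y ∉ Q := fun hyQ => hxQ ((h Q hQ hQP).mpr hyQ)
      refine Q.mul_mem_left _ ?_
      refine (hQ.mem_or_mem (?_ : y * (1 - y) ∈ Q)).resolve_left hyQ
      rw [mul_sub, mul_one, hy.eq, sub_self]
      exact Q.zero_mem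
  obtain ⟨a, ha, ha'⟩ := key x y hx hy h
  obtain ⟨b, hb, hb'⟩ := key y x hy hx fun Q hQ hQP => (h Q hQ hQP).symm
  refine ⟨a * b, fun hab => ((‹P.IsPrime›.mem_or_mem hab).elim ha hb), ?_⟩
  rw [mul_sub, mul_one, smul_sub, sub_eq_zero] at ha' hb'
  rw [mul_comm a b, mul_smul, ha', mul_comm b a, mul_smul, hb', smul_comm, mul_comm x y]

/-- A sum of members of a complete family of orthogonal idempotents. -/
theorem isIdempotentElem_sum {D ι : Type*} [CommRing D] [DecidableEq ι] {e : ι → D}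
    (he : OrthogonalIdempotents e) (s : Finset ι) :
    IsIdempotentElem (∑ i ∈ s, e i) := he.isIdempotentElem_sum

section

variable {A A' B C : Type*} [CommRing A] [CommRing A'] [CommRing B] [CommRing C] [Algebra A A']
  [Algebra A B] [Algebra A C]

/-- Primes of the base change over a given prime over a rational point. -/
theorem exists_prime_over {p : Ideal A} {P : Ideal A'} [p.IsPrime] [P.IsPrime] [P.LiesOver p]
    (x : Ideal B) [x.IsPrime] [x.LiesOver p]
    (H : Function.Bijective (Ideal.ResidueField.mapₐ p P (Algebra.ofId _ _) (P.over_def p))) :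
    ∃ Q : Ideal (A' ⊗[A] B), Q.IsPrime ∧ Q.LiesOver P ∧
      Q.comap (Algebra.TensorProduct.includeRight : B →ₐ[A] A' ⊗[A] B) = x := by
  obtain ⟨Q, hQ⟩ := (Ideal.fiberIsoOfBijectiveResidueField (S := B) H).surjective
    ⟨x, ‹_›, ‹_›⟩
  refine ⟨Q.1, Q.2.1, Q.2.2, ?_⟩
  have := Ideal.comap_fiberIsoOfBijectiveResidueField_apply H Q
  rw [hQ] at this
  exact this.symm

/-- Étale locally, a set of primes in the fibre of a finite algebra is cut out by an idempotent. -/
theorem exists_idem_finite {A : Type u} {B : Type u} [CommRing A] [CommRing B] [Algebra A B]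
    [Module.Finite A B] (p : Ideal A) [p.IsPrime] (E : Set (Ideal B)) :
    ∃ (A' : Type u) (_ : CommRing A') (_ : Algebra A A') (_ : Algebra.Etale A A') (P : Ideal A')
      (_ : P.IsPrime) (_ : P.LiesOver p) (e : A' ⊗[A] B),
      Function.Bijective (Ideal.ResidueField.mapₐ p P (Algebra.ofId _ _) (P.over_def p)) ∧
      IsIdempotentElem e ∧ ∀ Q : Ideal (A' ⊗[A] B), Q.IsPrime → Q.LiesOver P →
        (e ∉ Q ↔ Q.comap (Algebra.TensorProduct.includeRight : B →ₐ[A] A' ⊗[A] B) ∈ E) := by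
  classical
  obtain ⟨A', _, _, _, P, _, _, n, e, he, P', hP', hP'', hbij, hmem, H⟩ :=
    Algebra.exists_etale_completeOrthogonalIdempotents_forall_liesOver_eq (S := B) p
  let s : Finset (Fin n) := Finset.univ.filter fun i =>
    (P' i).comap (Algebra.TensorProduct.includeRight : B →ₐ[A] A' ⊗[A] B) ∈ E
  have hor : OrthogonalIdempotents (fun i : Fin n => e i.castSucc) :=
    he.toOrthogonalIdempotents.embedding (Fin.castSuccEmb)
  refine ⟨A', _, _, ‹_›, P, ‹_›, ‹_›, ∑ i ∈ s, e i.castSucc, hbij, hor.isIdempotentElem_sum, ?_⟩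
  intro Q hQ hQP
  obtain ⟨hl, hQi⟩ := H Q hQ hQP
  have h1 : ∃ i : Fin n, e i.castSucc ∉ Q := by
    by_contra hcon
    push Not at hcon
    refine hQ.ne_top ((Ideal.eq_top_iff_one _).mpr ?_)
    rw [← he.complete]
    refine Q.sum_mem fun j _ => ?_
    refine Fin.lastCases ?_ (fun i => ?_) j
    · exact hl
    · exact hcon i
  obtain ⟨i, hi⟩ := h1
  have hQP' := hQi i hi
  have h2 : ∀ j : Fin n, j ≠ i → e j.castSucc ∈ Q := by
    intro j hj
    refine (hQ.mem_or_mem (?_ : e j.castSucc * e i.castSucc ∈ Q)).resolve_right hi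
    rw [hor.ortho hj]
    exact Q.zero_mem
  by_cases his : i ∈ s
  · have h3 : Q.comap (Algebra.TensorProduct.includeRight : B →ₐ[A] A' ⊗[A] B) ∈ E := by
      rw [hQP']
      exact (Finset.mem_filter.mp his).2
    refine ⟨fun _ => h3, fun _ hmem => hi ?_⟩
    rw [← Finset.add_sum_erase _ _ his] at hmem
    have h4 : ∑ j ∈ s.erase i, e j.castSucc ∈ Q :=
      Q.sum_mem fun j hj => h2 j (Finset.ne_of_mem_erase hj)
    exact (Q.add_mem_iff_left h4).mp hmem
  · have h3 : Q.comap (Algebra.TensorProduct.includeRight : B →ₐ[A] A' ⊗[A] B) ∉ E := by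
      intro h
      rw [hQP'] at h
      exact his (Finset.mem_filter.mpr ⟨Finset.mem_univ _, h⟩)
    refine ⟨fun h => absurd (Q.sum_mem fun j hj => h2 j ?_) h, fun h => absurd h h3⟩
    rintro rfl
    exact his hj

/-- Étale locally, a set of primes in a finite fibre of an integral algebra is cut out by an
idempotent. -/
theorem exists_idem {A : Type u} {B : Type u} [CommRing A] [CommRing B] [Algebra A B]
    [Algebra.IsIntegral A B] (p : Ideal A) [p.IsPrime] (hfin : (p.primesOver B).Finite)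
    (E : Set (Ideal B)) :
    ∃ (A' : Type u) (_ : CommRing A') (_ : Algebra A A') (_ : Algebra.Etale A A') (P : Ideal A')
      (_ : P.IsPrime) (_ : P.LiesOver p) (e : A' ⊗[A] B),
      Function.Bijective (Ideal.ResidueField.mapₐ p P (Algebra.ofId _ _) (P.over_def p)) ∧
      IsIdempotentElem e ∧ ∀ Q : Ideal (A' ⊗[A] B), Q.IsPrime → Q.LiesOver P →
        (e ∉ Q ↔ Q.comap (Algebra.TensorProduct.includeRight : B →ₐ[A] A' ⊗[A] B) ∈ E) := by
  obtain ⟨B₀, hB₀, hinj⟩ := exists_finite_subalgebra p hfin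
  obtain ⟨A', _, _, _, P, _, _, e, hbij, he, H⟩ := exists_idem_finite (B := B₀) p
    {y | ∃ x ∈ E, x ∈ p.primesOver B ∧ x.comap B₀.val = y}
  let φ : A' ⊗[A] B₀ →ₐ[A'] A' ⊗[A] B := Algebra.TensorProduct.map (.id A' A') B₀.val
  refine ⟨A', _, _, ‹_›, P, ‹_›, ‹_›, φ e, hbij, he.map φ, ?_⟩
  intro Q hQ hQP
  have hQ' : (Q.comap φ).IsPrime := inferInstance
  have hQP' : (Q.comap φ).LiesOver P := inferInstance
  have h1 := H (Q.comap φ) hQ' hQP'
  have e1 : (Q.comap φ).comap (Algebra.TensorProduct.includeRight : B₀ →ₐ[A] A' ⊗[A] B₀) =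
      (Q.comap (Algebra.TensorProduct.includeRight : B →ₐ[A] A' ⊗[A] B)).comap B₀.val := by
    ext b
    change φ (1 ⊗ₜ b) ∈ Q ↔ (1 : A') ⊗ₜ[A] (b : B) ∈ Q
    simp [φ]
  rw [e1] at h1
  refine Iff.trans (Iff.rfl : φ e ∉ Q ↔ e ∉ Q.comap φ) (h1.trans ?_)
  have hprime : Q.comap (Algebra.TensorProduct.includeRight : B →ₐ[A] A' ⊗[A] B) ∈
      p.primesOver B := by
    refine ⟨inferInstance, ⟨?_⟩⟩
    ext a
    have : P = Q.comap (algebraMap A' _) := hQP.over
    have h2 : p = P.comap (algebraMap A A') := Ideal.LiesOver.over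
    rw [h2, this]
    change algebraMap A' (A' ⊗[A] B) (algebraMap A A' a) ∈ Q ↔
      (Algebra.TensorProduct.includeRight : B →ₐ[A] A' ⊗[A] B) (algebraMap A B a) ∈ Q
    rw [AlgHom.commutes, ← IsScalarTower.algebraMap_apply]
  constructor
  · rintro ⟨x, hx, hxp, hx'⟩
    rwa [← hinj x hxp _ hprime hx']
  · intro h
    exact ⟨_, h, hprime, rfl⟩

/-- **The equalizer separates saturated sets of primes.** -/
theorem comap_ne {A : Type u} {B : Type u} {C : Type u} [CommRing A] [CommRing B] [CommRing C]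
    [Algebra A B] [Algebra A C] [Algebra.IsIntegral A B] [Algebra.IsIntegral A C]
    (φ₁ φ₂ : B →ₐ[A] C) (p : Ideal A) [p.IsPrime] (hfin : (p.primesOver B).Finite)
    (E : Set (Ideal B)) (hE : ∀ r : Ideal C, r.IsPrime → r.LiesOver p →
      (r.comap φ₁ ∈ E ↔ r.comap φ₂ ∈ E)) (x x' : Ideal B) [x.IsPrime] [x'.IsPrime] [x.LiesOver p]
    [x'.LiesOver p] (hx : x ∈ E) (hx' : x' ∉ E) :
    x.comap (AlgHom.equalizer φ₁ φ₂).val ≠ x'.comap (AlgHom.equalizer φ₁ φ₂).val := by
  intro heq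
  obtain ⟨A', _, _, _, P, _, _, e, hbij, he, H⟩ := exists_idem p hfin E
  let ψ₁ : A' ⊗[A] B →ₐ[A'] A' ⊗[A] C := Algebra.TensorProduct.map (.id A' A') φ₁
  let ψ₂ : A' ⊗[A] B →ₐ[A'] A' ⊗[A] C := Algebra.TensorProduct.map (.id A' A') φ₂
  let B' := AlgHom.equalizer φ₁ φ₂
  let ι : A' ⊗[A] B' →ₐ[A'] A' ⊗[A] B := Algebra.TensorProduct.map (.id A' A') B'.val
  have comapψ : ∀ (φ : B →ₐ[A] C) (Q : Ideal (A' ⊗[A] C)),
      (Q.comap (Algebra.TensorProduct.map (.id A' A') φ : A' ⊗[A] B →ₐ[A'] A' ⊗[A] C)).comap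
        (Algebra.TensorProduct.includeRight : B →ₐ[A] A' ⊗[A] B) =
      (Q.comap (Algebra.TensorProduct.includeRight : C →ₐ[A] A' ⊗[A] C)).comap φ := by
    intro φ Q
    ext b
    change (Algebra.TensorProduct.map (.id A' A') φ : A' ⊗[A] B →ₐ[A'] A' ⊗[A] C) (1 ⊗ₜ b) ∈ Q ↔
      (1 : A') ⊗ₜ[A] (φ b) ∈ Q
    simp
  have hint : Algebra.IsIntegral A' (A' ⊗[A] C) := inferInstance
  obtain ⟨a, ha, ha'⟩ := exists_smul_eq (D := A' ⊗[A] C) P (he.map ψ₁) (he.map ψ₂) (by
    intro Q hQ hQP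
    have hpr : (Q.comap (Algebra.TensorProduct.includeRight : C →ₐ[A] A' ⊗[A] C)).LiesOver p := by
      refine ⟨?_⟩
      ext a
      have : P = Q.comap (algebraMap A' _) := hQP.over
      have h2 : p = P.comap (algebraMap A A') := Ideal.LiesOver.over
      rw [h2, this]
      change algebraMap A' (A' ⊗[A] C) (algebraMap A A' a) ∈ Q ↔
        (Algebra.TensorProduct.includeRight : C →ₐ[A] A' ⊗[A] C) (algebraMap A C a) ∈ Q
      rw [AlgHom.commutes, ← IsScalarTower.algebraMap_apply]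
    have h1 := H (Q.comap ψ₁) inferInstance inferInstance
    have h2 := H (Q.comap ψ₂) inferInstance inferInstance
    rw [comapψ φ₁] at h1
    rw [comapψ φ₂] at h2
    have h3 := hE _ inferInstance hpr
    rw [← not_iff_not]
    exact (h1.trans h3).trans h2.symm)
  have h4 : ψ₁ (a • e) = ψ₂ (a • e) := by
    rw [map_smul, map_smul, ha']
  have h5 : a • e ∈ LinearMap.eqLocus (AlgebraTensorModule.lTensor A' A' φ₁.toLinearMap)
      (AlgebraTensorModule.lTensor A' A' φ₂.toLinearMap) := h4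
  rw [Module.Flat.eqLocus_lTensor_eq] at h5
  obtain ⟨e', he'⟩ := h5
  have h6 : ∃ e'' : A' ⊗[A] B', ι e'' = a • e := ⟨e', he'⟩
  obtain ⟨e'', he''⟩ := h6
  obtain ⟨Q, hQ, hQP, hQx⟩ := exists_prime_over (P := P) x hbij
  obtain ⟨Q', hQ', hQP', hQx'⟩ := exists_prime_over (P := P) x' hbij
  have h7 : Q.comap ι = Q'.comap ι := by
    refine Ideal.eq_of_comap_eq_comap_of_bijective_residueFieldMap hbij _ _ ?_
    have aux : ∀ Q : Ideal (A' ⊗[A] B), (Q.comap ι).comap
        (Algebra.TensorProduct.includeRight : B' →ₐ[A] A' ⊗[A] B').toRingHom =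
        (Q.comap (Algebra.TensorProduct.includeRight : B →ₐ[A] A' ⊗[A] B)).comap B'.val := by
      intro Q
      ext b
      change ι (1 ⊗ₜ b) ∈ Q ↔ (1 : A') ⊗ₜ[A] (b : B) ∈ Q
      simp [ι]
    rw [aux, aux, hQx, hQx']
    exact heq
  have h8 : e ∉ Q := (H Q hQ hQP).mpr (hQx ▸ hx)
  have h9 : e ∈ Q' := by
    by_contra h
    exact hx' (hQx' ▸ (H Q' hQ' hQP').mp h)
  have h10 : e'' ∈ Q'.comap ι := by
    change ι e'' ∈ Q'
    rw [he'', Algebra.smul_def]
    exact Q'.mul_mem_left _ h9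
  rw [← h7] at h10
  change ι e'' ∈ Q at h10
  rw [he'', Algebra.smul_def] at h10
  refine (hQ.mem_or_mem h10).elim (fun h => ha ?_) h8
  have : P = Q.comap (algebraMap A' _) := hQP.over
  rw [this]
  exact h

end

end K392.EqSep
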