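import Groth.Agent.Grpd.K392.EqQuot
import Groth.Agent.Grpd.K392.EqSep

/-!
# Points of the quotient by the equalizer
-/

set_option autoImplicit false
universe u

open CategoryTheory Limits AlgebraicGeometry Opposite
open AlgebraicGeometry.Scheme.AffineZariskiSite AlgebraicGeometry.Scheme
open Groth.Agent.CohqB Groth.Agent.CalgA

namespace K392.EqPts

section idl

variable {T Z : Scheme.{u}}

/-- The prime ideal of functions vanishing at a point. -/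
noncomputable def idl (x : T) (W : T.Opens) (hx : x ∈ W) : Ideal Γ(T, W) :=
  (IsLocalRing.maximalIdeal (T.presheaf.stalk x)).comap (T.presheaf.germ W x hx).hom

instance instIsPrimeIdl (x : T) (W : T.Opens) (hx : x ∈ W) : (idl x W hx).IsPrime := by
  unfold idl
  infer_instance

theorem mem_idl {x : T} {W : T.Opens} {hx : x ∈ W} {s : Γ(T, W)} :
    s ∈ idl x W hx ↔ x ∉ T.basicOpen s := by
  rw [T.mem_basicOpen s x hx]
  exact IsLocalRing.mem_maximalIdeal _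

theorem exists_idl {W : T.Opens} (hW : IsAffineOpen W) (P : Ideal Γ(T, W)) [hP : P.IsPrime] :
    ∃ (x : T) (hx : x ∈ W), idl x W hx = P := by
  refine ⟨hW.fromSpec ⟨P, hP⟩, ?_, ?_⟩
  · have : hW.fromSpec ⟨P, hP⟩ ∈ Set.range hW.fromSpec := ⟨_, rfl⟩
    rw [hW.range_fromSpec] at this
    exact this
  · ext s
    rw [mem_idl]
    have h1 : hW.fromSpec ⟨P, hP⟩ ∈ T.basicOpen s ↔ (⟨P, hP⟩ : PrimeSpectrum _) ∈
        hW.fromSpec ⁻¹ᵁ T.basicOpen s := Iff.rfl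
    rw [h1, hW.fromSpec_preimage_basicOpen]
    exact not_not

theorem idl_inj {W : T.Opens} (hW : IsAffineOpen W) {x y : T} {hx : x ∈ W} {hy : y ∈ W}
    (h : idl x W hx = idl y W hy) : x = y := by
  obtain ⟨P, hP⟩ : x ∈ Set.range hW.fromSpec := by rw [hW.range_fromSpec]; exact hx
  obtain ⟨Q, hQ⟩ : y ∈ Set.range hW.fromSpec := by rw [hW.range_fromSpec]; exact hy
  rw [← hP, ← hQ]
  congr 1
  refine PrimeSpectrum.ext (Ideal.ext fun s => ?_)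
  have h1 : hW.fromSpec P ∈ T.basicOpen s ↔ P ∈ hW.fromSpec ⁻¹ᵁ T.basicOpen s := Iff.rfl
  have h2 : hW.fromSpec Q ∈ T.basicOpen s ↔ Q ∈ hW.fromSpec ⁻¹ᵁ T.basicOpen s := Iff.rfl
  rw [hW.fromSpec_preimage_basicOpen] at h1 h2
  have h3 : s ∈ idl x W hx ↔ s ∈ idl y W hy := by rw [h]
  rw [mem_idl, mem_idl, ← hP, ← hQ, h1, h2] at h3
  exact not_iff_not.mp (show (s ∉ P.asIdeal ↔ s ∉ Q.asIdeal) from not_iff_not.mp h3)

theorem comap_idl (t : T ⟶ Z) (V : Z.Opens) (W : T.Opens) (e : W ≤ t ⁻¹ᵁ V) (x : T) (hx : x ∈ W)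
    (hx' : t x ∈ V) : (idl x W hx).comap (t.appLE V W e).hom = idl (t x) V hx' := by
  ext s
  rw [Ideal.mem_comap, mem_idl, mem_idl]
  have h1 : t x ∈ Z.basicOpen s ↔ x ∈ t ⁻¹ᵁ Z.basicOpen s := Iff.rfl
  rw [h1, Scheme.preimage_basicOpen]
  have h2 : T.basicOpen (t.appLE V W e s) = W ⊓ T.basicOpen (t.app V s) := by
    rw [Scheme.Hom.appLE]
    exact T.basicOpen_res _ _
  change ¬ (x ∈ T.basicOpen (t.appLE V W e s)) ↔ _
  rw [h2]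
  exact not_congr ⟨fun h => h.2, fun h => ⟨hx, h⟩⟩

end idl

section main

open K392.EqQuot

variable {S X R : Scheme.{u}} (d : Dat S X R) 

/-- The relation defined by the two maps. -/
def Rel (x x' : X) : Prop := ∃ r : R, d.p₁ r = x ∧ d.p₂ r = x'

variable [IsIntegralHom d.f] [IsIntegralHom d.g]

theorem rel_of_q_eq (hfin : ∀ s : S, (d.f ⁻¹' {s}).Finite) (heqv : Equivalence (Rel d)) {x x' : X}
    (h : d.q x = d.q x') : Rel d x x' := by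
  classical
  have hfx : d.f x = d.f x' := by
    rw [← d.q_h, Scheme.Hom.comp_apply, Scheme.Hom.comp_apply, h]
  obtain ⟨U, hU, hs, -⟩ := exists_isAffineOpen_mem_and_subset (U := ⊤) (x := d.f x) trivial
  have hs' : d.f x' ∈ U := hfx ▸ hs
  have hX : IsAffineOpen (d.f ⁻¹ᵁ U) := hU.preimage d.f
  have hR : IsAffineOpen (d.g ⁻¹ᵁ U) := hU.preimage d.g
  let p := idl (d.f x) U hs
  algebraize [(d.f.app U).hom, (d.g.app U).hom]
  have hi1 : Algebra.IsIntegral Γ(S, U) Γ(X, d.f ⁻¹ᵁ U) := by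
    rw [← algebraMap_isIntegral_iff]
    exact IsIntegralHom.isIntegral_app d.f U hU
  have hi2 : Algebra.IsIntegral Γ(S, U) Γ(R, d.g ⁻¹ᵁ U) := by
    rw [← algebraMap_isIntegral_iff]
    exact IsIntegralHom.isIntegral_app d.g U hU
  let φ₁ : Γ(X, d.f ⁻¹ᵁ U) →ₐ[Γ(S, U)] Γ(R, d.g ⁻¹ᵁ U) :=
    { (d.φ₁ U).hom with commutes' := fun a => congr($(d.app_φ₁ U) a) }
  let φ₂ : Γ(X, d.f ⁻¹ᵁ U) →ₐ[Γ(S, U)] Γ(R, d.g ⁻¹ᵁ U) :=
    { (d.φ₂ U).hom with commutes' := fun a => congr($(d.app_φ₂ U) a) }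
  have over_idl : ∀ (y : X) (hy : y ∈ d.f ⁻¹ᵁ U), (idl y (d.f ⁻¹ᵁ U) hy).comap (algebraMap Γ(S, U) _) =
      idl (d.f y) U hy := by
    intro y hy
    have := comap_idl d.f U (d.f ⁻¹ᵁ U) le_rfl y hy hy
    rw [← Scheme.Hom.app_eq_appLE] at this
    exact this
  have over_idl' : ∀ (y : R) (hy : y ∈ d.g ⁻¹ᵁ U), (idl y (d.g ⁻¹ᵁ U) hy).comap (algebraMap Γ(S, U) _) =
      idl (d.g y) U hy := by
    intro y hy
    have := comap_idl d.g U (d.g ⁻¹ᵁ U) le_rfl y hy hy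
    rw [← Scheme.Hom.app_eq_appLE] at this
    exact this
  have hfinp : (p.primesOver Γ(X, d.f ⁻¹ᵁ U)).Finite := by
    refine ((hfin (d.f x)).image (fun y => if hy : y ∈ d.f ⁻¹ᵁ U then idl y _ hy else ⊤)).subset ?_
    rintro Q ⟨hQ, hQp⟩
    obtain ⟨y, hy, rfl⟩ := exists_idl hX Q
    refine ⟨y, ?_, dif_pos hy⟩
    have h1 : p = idl (d.f y) U hy := by
      rw [← over_idl]
      exact hQp.over
    exact (idl_inj hU h1).symm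
  let E : Set (Ideal Γ(X, d.f ⁻¹ᵁ U)) := {Q | ∃ (y : X) (hy : y ∈ d.f ⁻¹ᵁ U), Rel d x y ∧
    idl y (d.f ⁻¹ᵁ U) hy = Q}
  have memE : ∀ (y : X) (hy : y ∈ d.f ⁻¹ᵁ U), idl y (d.f ⁻¹ᵁ U) hy ∈ E ↔ Rel d x y := by
    intro y hy
    constructor
    · rintro ⟨z, hz, h1, h2⟩
      rwa [← idl_inj hX h2]
    · intro h
      exact ⟨y, hy, h, rfl⟩
  have hE : ∀ r : Ideal Γ(R, d.g ⁻¹ᵁ U), r.IsPrime → r.LiesOver p →
      (r.comap φ₁ ∈ E ↔ r.comap φ₂ ∈ E) := by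
    intro r hrp _
    obtain ⟨r, hr, rfl⟩ := exists_idl hR r
    have m1 : d.p₁ r ∈ d.f ⁻¹ᵁ U := d.le₁ U hr
    have m2 : d.p₂ r ∈ d.f ⁻¹ᵁ U := d.le₂ U hr
    have e1 : (idl r _ hr).comap φ₁ = idl (d.p₁ r) (d.f ⁻¹ᵁ U) m1 :=
      comap_idl d.p₁ (d.f ⁻¹ᵁ U) (d.g ⁻¹ᵁ U) (d.le₁ U) r hr _
    have e2 : (idl r _ hr).comap φ₂ = idl (d.p₂ r) (d.f ⁻¹ᵁ U) m2 :=
      comap_idl d.p₂ (d.f ⁻¹ᵁ U) (d.g ⁻¹ᵁ U) (d.le₂ U) r hr _
    rw [e1, e2, memE, memE]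
    have h1 : Rel d (d.p₁ r) (d.p₂ r) := ⟨r, rfl, rfl⟩
    exact ⟨fun h => heqv.trans h h1, fun h => heqv.trans h (heqv.symm h1)⟩
  by_contra hcon
  have : (idl x (d.f ⁻¹ᵁ U) hs).LiesOver p := ⟨(over_idl x hs).symm⟩
  have : (idl x' (d.f ⁻¹ᵁ U) hs').LiesOver p := by
    refine ⟨?_⟩
    change _ = (idl x' (d.f ⁻¹ᵁ U) hs').comap (algebraMap Γ(S, U) _)
    rw [over_idl x' hs']
    simp only [p, hfx]
  have : (idl x (d.f ⁻¹ᵁ U) hs).IsPrime := instIsPrimeIdl _ _ _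
  have : (idl x' (d.f ⁻¹ᵁ U) hs').IsPrime := instIsPrimeIdl _ _ _
  refine EqSep.comap_ne φ₁ φ₂ p hfinp E hE (idl x (d.f ⁻¹ᵁ U) hs) (idl x' (d.f ⁻¹ᵁ U) hs')
    ((memE _ _).mpr (heqv.refl x)) (fun h => hcon ((memE _ _).mp h)) ?_
  let U' : S.AffineZariskiSite := ⟨U, hU⟩
  have h1 := comap_idl d.q (d.h ⁻¹ᵁ U'.toOpens) (d.f ⁻¹ᵁ U'.toOpens) (d.q_le _) x hs (d.q_le _ hs)
  have h2 := comap_idl d.q (d.h ⁻¹ᵁ U'.toOpens) (d.f ⁻¹ᵁ U'.toOpens) (d.q_le _) x' hs'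
    (d.q_le _ hs')
  have h3 : (idl x (d.f ⁻¹ᵁ U'.toOpens) hs).comap
      (d.q.appLE (d.h ⁻¹ᵁ U'.toOpens) (d.f ⁻¹ᵁ U'.toOpens) (d.q_le _)).hom =
      (idl x' (d.f ⁻¹ᵁ U'.toOpens) hs').comap
      (d.q.appLE (d.h ⁻¹ᵁ U'.toOpens) (d.f ⁻¹ᵁ U'.toOpens) (d.q_le _)).hom := by
    rw [h1, h2]
    simp only [h]
  rw [d.q_appLE] at h3
  ext b
  obtain ⟨c, hc⟩ := (ConcreteCategory.bijective_of_isIso (d.sec U')).2 (⟨b.1, b.2⟩ : d.eqR U)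
  have h4 := Ideal.ext_iff.mp h3 c
  have h5 : (d.sec U' ≫ CommRingCat.ofHom (d.eqR U'.toOpens).subtype) c = b.1 := by
    rw [ConcreteCategory.comp_apply, hc]
    rfl
  rw [Ideal.mem_comap, Ideal.mem_comap] at h4
  change (d.sec U' ≫ CommRingCat.ofHom (d.eqR U'.toOpens).subtype) c ∈ _ ↔
    (d.sec U' ≫ CommRingCat.ofHom (d.eqR U'.toOpens).subtype) c ∈ _ at h4
  rw [h5] at h4
  exact h4

end main

end K392.EqPts
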