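import Groth.Agent.CohqB.RelSpec
import Groth.Agent.CalgA.RelSpecMap
import Groth.Agent.Grpd.K392.EqLoc
import Mathlib.AlgebraicGeometry.Morphisms.Integral

/-!
# The relative spectrum of the equalizer

For two `S`-morphisms `p₁, p₂ : R ⟶ X` of schemes affine over `S`, the scheme `Y = Spec_S` of the
equalizer of `f_* O_X ⇉ g_* O_R`.
-/

set_option autoImplicit false
universe u

open CategoryTheory Limits AlgebraicGeometry Opposite
open AlgebraicGeometry.Scheme.AffineZariskiSite AlgebraicGeometry.Scheme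
open Groth.Agent.CohqB Groth.Agent.CalgA

namespace K392.EqQuot

/-- Two morphisms over `S`. -/
structure Dat (S X R : Scheme.{u}) where
  /-- structure map of `X` -/
  f : X ⟶ S
  /-- structure map of `R` -/
  g : R ⟶ S
  /-- first map -/
  p₁ : R ⟶ X
  /-- second map -/
  p₂ : R ⟶ X
  hp₁ : p₁ ≫ f = g
  hp₂ : p₂ ≫ f = g

namespace Dat

noncomputable section

variable {S X R : Scheme.{u}} (d : Dat S X R)

theorem le₁ (V : S.Opens) : d.g ⁻¹ᵁ V ≤ d.p₁ ⁻¹ᵁ (d.f ⁻¹ᵁ V) := by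
  rw [← Scheme.Hom.comp_preimage, d.hp₁]

theorem le₂ (V : S.Opens) : d.g ⁻¹ᵁ V ≤ d.p₂ ⁻¹ᵁ (d.f ⁻¹ᵁ V) := by
  rw [← Scheme.Hom.comp_preimage, d.hp₂]

/-- first map on sections -/
def φ₁ (V : S.Opens) : Γ(X, d.f ⁻¹ᵁ V) ⟶ Γ(R, d.g ⁻¹ᵁ V) := d.p₁.appLE _ _ (d.le₁ V)

/-- second map on sections -/
def φ₂ (V : S.Opens) : Γ(X, d.f ⁻¹ᵁ V) ⟶ Γ(R, d.g ⁻¹ᵁ V) := d.p₂.appLE _ _ (d.le₂ V)

/-- restriction of sections of `X` -/
def resX {V W : S.Opens} (h : W ≤ V) : Γ(X, d.f ⁻¹ᵁ V) ⟶ Γ(X, d.f ⁻¹ᵁ W) :=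
  X.presheaf.map (homOfLE (d.f.preimage_mono h)).op

/-- restriction of sections of `R` -/
def resR {V W : S.Opens} (h : W ≤ V) : Γ(R, d.g ⁻¹ᵁ V) ⟶ Γ(R, d.g ⁻¹ᵁ W) :=
  R.presheaf.map (homOfLE (d.g.preimage_mono h)).op

theorem resX_φ₁ {V W : S.Opens} (h : W ≤ V) : d.resX h ≫ d.φ₁ W = d.φ₁ V ≫ d.resR h := by
  unfold resX resR φ₁
  rw [Scheme.Hom.map_appLE, Scheme.Hom.appLE_map]

theorem resX_φ₂ {V W : S.Opens} (h : W ≤ V) : d.resX h ≫ d.φ₂ W = d.φ₂ V ≫ d.resR h := by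
  unfold resX resR φ₂
  rw [Scheme.Hom.map_appLE, Scheme.Hom.appLE_map]

theorem app_φ₁ (V : S.Opens) : d.f.app V ≫ d.φ₁ V = d.g.app V := by
  unfold φ₁
  rw [Scheme.Hom.app_eq_appLE, Scheme.Hom.appLE_comp_appLE, Scheme.Hom.app_eq_appLE]
  simp only [d.hp₁]

theorem app_φ₂ (V : S.Opens) : d.f.app V ≫ d.φ₂ V = d.g.app V := by
  unfold φ₂
  rw [Scheme.Hom.app_eq_appLE, Scheme.Hom.appLE_comp_appLE, Scheme.Hom.app_eq_appLE]
  simp only [d.hp₂]

/-- The equalizer on sections. -/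
abbrev eqR (V : S.Opens) : Subring Γ(X, d.f ⁻¹ᵁ V) :=
  RingHom.eqLocus (d.φ₁ V).hom (d.φ₂ V).hom

/-- restriction on the equalizer. -/
def resE {V W : S.Opens} (h : W ≤ V) : d.eqR V →+* d.eqR W :=
  EqLoc.eqMap (φ₁ := (d.φ₁ V).hom) (φ₂ := (d.φ₂ V).hom) (φ₁' := (d.φ₁ W).hom)
    (φ₂' := (d.φ₂ W).hom) (β := (d.resX h).hom) (γ := (d.resR h).hom)
    (congrArg CommRingCat.Hom.hom (d.resX_φ₁ h)) (congrArg CommRingCat.Hom.hom (d.resX_φ₂ h))

theorem resE_coe {V W : S.Opens} (h : W ≤ V) (y : d.eqR V) :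
    (d.resE h y : Γ(X, d.f ⁻¹ᵁ W)) = d.resX h y := rfl

/-- The presheaf of equalizers. -/
def pre : S.Opensᵒᵖ ⥤ CommRingCat.{u} where
  obj V := .of (d.eqR V.unop)
  map i := CommRingCat.ofHom (d.resE i.unop.le)
  map_id V := by
    ext y
    change X.presheaf.map _ y.1 = y.1
    rw [show (homOfLE (d.f.preimage_mono (𝟙 V : V ⟶ V).unop.le)).op = 𝟙 _ from rfl,
      X.presheaf.map_id]
    rfl
  map_comp {U V W} i j := by
    ext y
    change X.presheaf.map (homOfLE _).op y.1 = X.presheaf.map (homOfLE _).op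
      (X.presheaf.map (homOfLE _).op y.1)
    rw [← ConcreteCategory.comp_apply, ← X.presheaf.map_comp]
    rfl

/-- The structure map. -/
def str : S.presheaf ⟶ d.pre where
  app V := CommRingCat.ofHom ((d.f.app V.unop).hom.codRestrict (d.eqR V.unop) fun a => by
    change d.φ₁ _ (d.f.app _ a) = d.φ₂ _ (d.f.app _ a)
    rw [← ConcreteCategory.comp_apply, ← ConcreteCategory.comp_apply, app_φ₁, app_φ₂])
  naturality {V W} i := by
    ext y
    apply Subtype.ext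
    exact congr($(d.f.naturality i) y)

/-- Restricted to the affine site. -/
abbrev F : S.AffineZariskiSiteᵒᵖ ⥤ CommRingCat.{u} := (toOpensFunctor S).op ⋙ d.pre

/-- Restricted to the affine site. -/
abbrev α : (toOpensFunctor S).op ⋙ S.presheaf ⟶ d.F := (toOpensFunctor S).op.whiskerLeft d.str

variable [IsAffineHom d.f] [IsAffineHom d.g]

omit [IsAffineHom d.f] [IsAffineHom d.g] in
theorem isLocalization_of_eq {T : Scheme.{u}} {O O' : T.Opens} (hO : IsAffineOpen O)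
    (s : Γ(T, O)) (hle : O' ≤ O) (e : O' = T.basicOpen s) :
    letI : Algebra Γ(T, O) Γ(T, O') := (T.presheaf.map (homOfLE hle).op).hom.toAlgebra
    IsLocalization.Away s Γ(T, O') := by
  subst e
  exact hO.isLocalization_basicOpen s

omit [IsAffineHom d.f] [IsAffineHom d.g] in
/-- localization of sections over affine opens for affine morphisms -/
theorem isLocalization_preimage {T : Scheme.{u}} (t : T ⟶ S) [IsAffineHom t] {U : S.Opens}
    (hU : IsAffineOpen U) (r : Γ(S, U)) :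
    letI : Algebra Γ(T, t ⁻¹ᵁ U) Γ(T, t ⁻¹ᵁ S.basicOpen r) :=
      (T.presheaf.map (homOfLE (t.preimage_mono (S.basicOpen_le r))).op).hom.toAlgebra
    IsLocalization.Away (t.app U r) Γ(T, t ⁻¹ᵁ S.basicOpen r) := by
  exact isLocalization_of_eq (hU.preimage t) (t.app U r) _ (t.preimage_basicOpen r)

theorem coequifibered : d.α.Coequifibered := by
  refine coequifibered_iff_forall_isLocalizationAway.mpr fun U r ↦ ?_
  have hU : IsAffineOpen U.1 := U.2
  have hB := isLocalization_preimage d.f hU r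
  have hC := isLocalization_preimage d.g hU r
  have h := EqLoc.isLocalization (φ₁ := (d.φ₁ U.1).hom) (φ₂ := (d.φ₂ U.1).hom)
    (φ₁' := (d.φ₁ (S.basicOpen r)).hom) (φ₂' := (d.φ₂ (S.basicOpen r)).hom)
    (β := (d.resX (S.basicOpen_le r)).hom) (γ := (d.resR (S.basicOpen_le r)).hom)
    (d.f.app U.1 r)
    (by
      change d.φ₁ _ (d.f.app _ r) = d.φ₂ _ (d.f.app _ r)
      rw [← ConcreteCategory.comp_apply, ← ConcreteCategory.comp_apply, app_φ₁, app_φ₂])
    (congrArg CommRingCat.Hom.hom (d.resX_φ₁ _)) (congrArg CommRingCat.Hom.hom (d.resX_φ₂ _))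
    hB (by
      have e : (d.φ₁ U.1).hom (d.f.app U.1 r) = d.g.app U.1 r := by
        change d.φ₁ _ (d.f.app _ r) = _
        rw [← ConcreteCategory.comp_apply, app_φ₁]
      rw [e]
      exact hC) (d.resE (S.basicOpen_le r)) (fun y => rfl)
  exact h

/-- The quotient scheme. -/
def Y : Scheme.{u} := RelSpec.obj d.coequifibered

/-- Its structure map. -/
def h : d.Y ⟶ S := RelSpec.toBase d.coequifibered

instance : IsAffineHom d.h := RelSpec.isAffineHom_toBase d.coequifibered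

/-- The lifting datum. -/
def liftData : RelSpec.LiftData d.α d.f where
  ψ U := CommRingCat.ofHom (d.eqR U.toOpens).subtype
  nat {U V} i := by
    ext y
    rfl
  comp U := by
    ext y
    rfl

/-- The quotient map. -/
def q : X ⟶ d.Y := RelSpec.lift d.coequifibered d.liftData

@[reassoc (attr := simp)]
theorem q_h : d.q ≫ d.h = d.f := RelSpec.lift_toBase _ _

/-- Sections of the quotient. -/
def sec (U : S.AffineZariskiSite) : Γ(d.Y, d.h ⁻¹ᵁ U.toOpens) ⟶ .of (d.eqR U.toOpens) :=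
  RelSpecMap.sectionHom d.coequifibered U

instance (U : S.AffineZariskiSite) : IsIso (d.sec U) :=
  inferInstanceAs (IsIso (RelSpecMap.sectionHom d.coequifibered U))

theorem q_le (V : S.Opens) : d.f ⁻¹ᵁ V ≤ d.q ⁻¹ᵁ (d.h ⁻¹ᵁ V) := by
  rw [← Scheme.Hom.comp_preimage, q_h]

theorem q_appLE (U : S.AffineZariskiSite) :
    d.q.appLE (d.h ⁻¹ᵁ U.toOpens) (d.f ⁻¹ᵁ U.toOpens) (d.q_le _) =
      d.sec U ≫ CommRingCat.ofHom (d.eqR U.toOpens).subtype :=
  RelSpecMap.lift_appLE d.coequifibered d.liftData U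

end

end Dat

end K392.EqQuot
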