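import Mathlib.AlgebraicGeometry.Morphisms.ClosedImmersion
import Mathlib.AlgebraicGeometry.Morphisms.Separated
import Mathlib.RingTheory.Spectrum.Prime.Topology

/-!
# Sections over the spectrum of a field are closed immersions
-/

set_option autoImplicit false
universe u

open CategoryTheory CategoryTheory.Limits AlgebraicGeometry

namespace K392.FieldSection

/-- A section of a morphism to the spectrum of a field is a closed immersion. -/
theorem isClosedImmersion_of_section_Spec {k : Type u} [Field k] {X : Scheme.{u}}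
    (f : X ⟶ Spec (CommRingCat.of k)) (σ : Spec (CommRingCat.of k) ⟶ X) (h : σ ≫ f = 𝟙 _) :
    IsClosedImmersion σ := by
  have hss : SurjectiveOnStalks (σ ≫ f) := by rw [h]; infer_instance
  have hss' : SurjectiveOnStalks σ := SurjectiveOnStalks.of_comp σ f
  have hemb : Topology.IsEmbedding σ := by
    refine Function.LeftInverse.isEmbedding (f := f) (fun x => ?_) f.continuous σ.continuous
    rw [← Scheme.Hom.comp_apply, h]
    rfl
  have hpre : IsPreimmersion σ := ⟨hemb⟩
  let pt : Spec (CommRingCat.of k) := IsLocalRing.closedPoint k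
  have hsub : Subsingleton (Spec (CommRingCat.of k)) :=
    inferInstanceAs (Subsingleton (PrimeSpectrum k))
  have hr : Set.range σ = {σ pt} := by
    ext x
    constructor
    · rintro ⟨y, rfl⟩
      rw [Subsingleton.elim y pt]; rfl
    · rintro rfl
      exact ⟨pt, rfl⟩
  have hcl : IsClosed (Set.range σ) := by
    rw [hr, ← closure_subset_iff_isClosed]
    intro z hz
    have hz' : σ pt ⤳ z := specializes_iff_mem_closure.mpr hz
    obtain ⟨_, ⟨V, hV, rfl⟩, hzV, -⟩ := X.isBasis_affineOpens.exists_subset_of_mem_open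
      (Set.mem_univ z) isOpen_univ
    replace hV : IsAffineOpen V := hV
    have hxV : σ pt ∈ V := hz'.mem_open V.isOpen hzV
    let σ' : Spec (CommRingCat.of k) ⟶ Spec Γ(X, V) := IsOpenImmersion.lift hV.fromSpec σ (by
      rw [hV.range_fromSpec, hr]
      rintro _ rfl
      exact hxV)
    have hσ' : σ' ≫ hV.fromSpec = σ := IsOpenImmersion.lift_fac _ _ _
    obtain ⟨φ, hφ⟩ := Spec.map_surjective σ'
    obtain ⟨ψ, hψ⟩ := Spec.map_surjective (hV.fromSpec ≫ f)
    have hψφ : ψ ≫ φ = 𝟙 _ := by
      apply Spec.map_injective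
      rw [Spec.map_comp, hφ, hψ, reassoc_of% hσ', h, Spec.map_id]
    have hsurj : Function.Surjective φ.hom := by
      intro a
      refine ⟨ψ.hom a, ?_⟩
      exact congrArg (fun g => g.hom a) hψφ
    have hmax : (σ' pt).asIdeal.IsMaximal := by
      rw [← hφ]
      have h1 : (Spec.map φ pt).asIdeal = Ideal.comap φ.hom pt.asIdeal := rfl
      rw [h1]
      have h2 : pt.asIdeal.IsMaximal := inferInstanceAs (IsLocalRing.maximalIdeal k).IsMaximal
      exact Ideal.comap_isMaximal_of_surjective φ.hom hsurj
    obtain ⟨w, hw⟩ : z ∈ Set.range hV.fromSpec := by rw [hV.range_fromSpec]; exact hzV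
    have hx : hV.fromSpec (σ' pt) = σ pt := by
      rw [← Scheme.Hom.comp_apply, hσ']
    have hsp : σ' pt ⤳ w := by
      rw [← hV.fromSpec.isOpenEmbedding.isInducing.specializes_iff, hw, hx]
      exact hz'
    have hcl' : IsClosed ({σ' pt} : Set (Spec Γ(X, V))) :=
      (PrimeSpectrum.isClosed_singleton_iff_isMaximal (σ' pt)).mpr hmax
    have hw' : w = σ' pt := hsp.mem_closed hcl' rfl
    rw [← hw, hw', hx]
    rfl
  exact IsClosedImmersion.of_isPreimmersion σ hcl

/-- A section of a morphism to a scheme isomorphic to the spectrum of a field is a closed immersion. -/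
theorem isClosedImmersion_of_section {k : Type u} [Field k] {X U : Scheme.{u}}
    (eU : U ≅ Spec (CommRingCat.of k)) (f : X ⟶ U) (σ : U ⟶ X) (h : σ ≫ f = 𝟙 _) :
    IsClosedImmersion σ := by
  have h1 : IsClosedImmersion (eU.inv ≫ σ) :=
    isClosedImmersion_of_section_Spec (f ≫ eU.hom) (eU.inv ≫ σ) (by
      rw [Category.assoc, reassoc_of% h, Iso.inv_hom_id])
  exact (MorphismProperty.cancel_left_of_respectsIso @IsClosedImmersion eU.inv σ).mp h1

end K392.FieldSection
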