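import Groth.Agent.Fitt.K360.LocFree
import Groth.Agent.Divis.IdealComap
import Groth.Agent.Pi1C.EtTraceSch
import Groth.Agent.Picfga.HilbZar
import Groth.Agent.Grpsch.FibRank
import Mathlib.AlgebraicGeometry.Morphisms.FlatRank

/-!
# The Fitting ideals of a finite morphism
-/

set_option autoImplicit false
universe u

open CategoryTheory CategoryTheory.Limits AlgebraicGeometry TopologicalSpace

namespace K392.FitFin

open K360.FittBasic
open scoped TensorProduct

section alg

/-- The `r`-th Fitting ideal of a ring map, the target being a module over the source. -/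
noncomputable def fr {A B : Type u} [CommRing A] [CommRing B] (β : A →+* B) (r : ℕ) : Ideal A :=
  letI := β.toAlgebra
  Fitt.ideal A B r

variable {A B : Type u} [CommRing A] [CommRing B] (β : A →+* B)

theorem fr_mono (hβ : β.Finite) {r r' : ℕ} (h : r ≤ r') : fr β r ≤ fr β r' := by
  let := β.toAlgebra
  have : Module.Finite A B := hβ
  exact ideal_mono h

theorem exists_fr_eq_top (hβ : β.Finite) : ∃ r, fr β r = ⊤ := by
  let := β.toAlgebra
  have : Module.Finite A B := hβ
  obtain ⟨n, x, hx⟩ := Module.Finite.exists_fin (R := A) (M := B)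
  exact ⟨n, ideal_eq_top_of_card_le x hx (by simp)⟩

theorem fr_isPushout {A A' B B' : CommRingCat.{u}} {φ : A ⟶ A'} {β : A ⟶ B} {β' : A' ⟶ B'}
    {ψ : B ⟶ B'} (h : IsPushout φ β β' ψ) (hβ : β.hom.Finite) (r : ℕ) :
    fr β'.hom r = (fr β.hom r).map φ.hom := by
  let := φ.hom.toAlgebra
  let := β.hom.toAlgebra
  let := β'.hom.toAlgebra
  let := ψ.hom.toAlgebra
  let := (φ ≫ β').hom.toAlgebra
  have : IsScalarTower A A' B' := .of_algebraMap_eq fun _ => rfl
  have : IsScalarTower A B B' := .of_algebraMap_eq fun x => congrArg (fun f => f.hom x) h.w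
  have : Module.Finite A B := hβ
  have hp : Algebra.IsPushout A A' B B' := (CommRingCat.isPushout_iff_isPushout).mp h
  have e := Algebra.IsPushout.equiv A A' B B'
  change Fitt.ideal A' B' r = (Fitt.ideal A B r).map (algebraMap A A')
  rw [← ideal_baseChange A' r]
  exact (ideal_congr e.toLinearEquiv r).symm

theorem fr_zero (hβ : β.Finite) (hinj : Function.Injective β) : fr β 0 = ⊥ := by
  let := β.toAlgebra
  have : Module.Finite A B := hβ
  rw [eq_bot_iff]
  intro a ha
  have h1 : a ∈ Module.annihilator A B :=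
    (K360.FittFiber.ideal_zero_le_annihilator (R := A) (M := B)) ha
  rw [Module.mem_annihilator] at h1
  have h2 : a • (1 : B) = 0 := h1 1
  rw [Algebra.smul_def, mul_one] at h2
  exact hinj (h2.trans (map_zero β).symm)

/-- Locally on the source, generators of the module. -/
theorem exists_gen (hβ : β.Finite) {n : ℕ} (htop : fr β n = ⊤) (p : Ideal A) [hp : p.IsPrime] :
    ∃ (f : A) (m : Fin n → B), f ∉ p ∧
      ∀ x : B, ∃ c : Fin n → A, β f * x = ∑ i, β (c i) * m i := by
  let := β.toAlgebra
  have : Module.Finite A B := hβ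
  have h1 : ¬ Fitt.ideal A B n ≤ p := by
    intro h
    exact hp.ne_top (top_le_iff.mp (htop.ge.trans h))
  obtain ⟨m, f, hf, hm⟩ := K360.FittFiber.exists_generators_of_finrank_le n p
    ((K360.FittFiber.not_le_prime_iff_finrank n p).mp h1)
  refine ⟨f, m, hf, fun x => ?_⟩
  obtain ⟨c, hc⟩ := (Submodule.mem_span_range_iff_exists_fun A).mp (hm x)
  refine ⟨c, ?_⟩
  have h2 : f • x = β f * x := Algebra.smul_def f x
  rw [← h2, ← hc]
  exact Finset.sum_congr rfl fun i _ => Algebra.smul_def _ _

/-- After inverting, the generators are a basis as soon as the lower Fitting ideals vanish. -/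
theorem exists_basis {A A' B B' : CommRingCat.{u}} {φ : A ⟶ A'} {β : A ⟶ B} {β' : A' ⟶ B'}
    {ψ : B ⟶ B'} (h : IsPushout φ β β' ψ) (hβ : β.hom.Finite) {n : ℕ}
    (hbot : ∀ k, k < n → fr β.hom k = ⊥) (f : A) (hf : IsUnit (φ f)) (m : Fin n → B)
    (hm : ∀ x : B, ∃ c : Fin n → A, β f * x = ∑ i, β (c i) * m i) :
    letI := β'.hom.toAlgebra
    Nonempty (Module.Basis (Fin n) A' B') := by
  let := β'.hom.toAlgebra
  have hspan : Submodule.span A' (Set.range fun i => ψ (m i)) = ⊤ := by
    rw [eq_top_iff]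
    have hψ : ∀ x : B, ψ x ∈ Submodule.span A' (Set.range fun i => ψ (m i)) := by
      intro x
      obtain ⟨c, hc⟩ := hm x
      obtain ⟨u, hu⟩ := hf
      have h1 : ψ x = (↑u⁻¹ : A') • (∑ i, (φ (c i)) • ψ (m i)) := by
        have h2 := congrArg ψ hc
        rw [map_mul, map_sum] at h2
        have h3 : ∀ a : A, ψ (β a) = β' (φ a) := fun a => congrArg (fun g => g.hom a) h.w.symm
        simp only [map_mul, h3] at h2
        have h4 : (∑ i, (φ (c i)) • ψ (m i)) = (u : A') • ψ x := by
          rw [Algebra.smul_def, hu]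
          refine Eq.trans ?_ h2.symm
          exact Finset.sum_congr rfl fun i _ => Algebra.smul_def _ _
        rw [h4, smul_smul, Units.inv_mul, one_smul]
      rw [h1]
      exact Submodule.smul_mem _ _ (Submodule.sum_mem _ fun i _ =>
        Submodule.smul_mem _ _ (Submodule.subset_span ⟨i, rfl⟩))
    intro y _
    let := φ.hom.toAlgebra
    let := β.hom.toAlgebra
    let := ψ.hom.toAlgebra
    let := (φ ≫ β').hom.toAlgebra
    have : IsScalarTower A A' B' := .of_algebraMap_eq fun _ => rfl
    have : IsScalarTower A B B' := .of_algebraMap_eq fun x => congrArg (fun f => f.hom x) h.w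
    have hp : Algebra.IsPushout A A' B B' := (CommRingCat.isPushout_iff_isPushout).mp h
    let e := Algebra.IsPushout.equiv A A' B B'
    obtain ⟨z, rfl⟩ := e.surjective y
    induction z with
    | zero => rw [map_zero]; exact Submodule.zero_mem _
    | add a b ha hb => rw [map_add]; exact Submodule.add_mem _ (ha trivial) (hb trivial)
    | tmul a b =>
      have : e (a ⊗ₜ b) = a • ψ b := by
        rw [Algebra.smul_def]
        exact Algebra.IsPushout.equiv_tmul ..
      rw [this]
      exact Submodule.smul_mem _ _ (hψ b)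
  have hli := K360.FittFiber.linearIndependent_of_ideal_eq_bot (R := A') (fun i => ψ (m i)) hspan (by
    intro k hk
    rw [Fintype.card_fin] at hk
    have := fr_isPushout h hβ k
    rw [hbot k hk, Ideal.map_bot] at this
    exact this)
  exact ⟨Module.Basis.mk hli hspan.ge⟩

end alg

section sch

lemma isFinLocFreeOfDeg_SpecMap {A B : CommRingCat.{u}} (β : A ⟶ B) {d : ℕ}
    (hb : letI := β.hom.toAlgebra; Nonempty (Module.Basis (Fin d) A B)) :
    Mor2.IsFinLocFreeOfDeg d (Spec.map β) := by
  have key : β.hom.Finite ∧ β.hom.Flat ∧ β.hom.FinitePresentation ∧ ∀ p, β.hom.finrank p = d := by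
    algebraize [β.hom]
    obtain ⟨b⟩ := hb
    have hfree : Module.Free A B := Module.Free.of_basis b
    have hfin : Module.Finite A B := Module.Finite.of_basis b
    refine ⟨hfin, ?_, ?_, ?_⟩
    · exact (inferInstance : Module.Flat A B)
    · have : Module.FinitePresentation A B := Module.finitePresentation_of_projective _ _
      exact (inferInstance : Algebra.FinitePresentation A B)
    · intro p
      have : Nontrivial A := by
        rcases subsingleton_or_nontrivial A with hs | hs
        · exact absurd (by rw [Subsingleton.elim (1 : A) 0]; exact p.asIdeal.zero_mem)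
            p.isPrime.one_notMem
        · exact hs
      change Module.rankAtStalk (R := A) B p = d
      rw [Module.rankAtStalk_eq_finrank_of_free]
      simp [Module.finrank_eq_card_basis b]
  obtain ⟨h1, h2, h3, h4⟩ := key
  refine ⟨⟨(IsFinite.SpecMap_iff _).2 h1, Flat.SpecMap_iff.2 h2,
    (LocallyOfFinitePresentation.SpecMap_iff _).2 h3⟩, fun y => ?_⟩
  rw [Scheme.Hom.finrank_SpecMap_eq_finrank h1 h2]
  exact h4 y

variable {X Y : Scheme.{u}} (f : X ⟶ Y) [IsFinite f]

theorem isFinLocFreeOfDeg_of_fr (n : ℕ)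
    (H : ∀ V : Y.Opens, IsAffineOpen V → (∀ k, k < n → fr (f.app V).hom k = ⊥) ∧
      fr (f.app V).hom n = ⊤) : Mor2.IsFinLocFreeOfDeg n f := by
  have key : ∀ y : Y, ∃ (V : Y.Opens) (hV : IsAffineOpen V), y ∈ V ∧
      Mor2.IsFinLocFreeOfDeg n (Spec.map (f.app V)) := by
    intro y
    obtain ⟨_, ⟨V : Y.Opens, hV, rfl⟩, hyV, -⟩ :=
      Y.isBasis_affineOpens.exists_subset_of_mem_open (Set.mem_univ y) isOpen_univ
    have hfin : (f.app V).hom.Finite := IsFinite.finite_app f V hV
    let p := hV.primeIdealOf ⟨y, hyV⟩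
    obtain ⟨a, m, ha, hm⟩ := exists_gen (f.app V).hom hfin (H V hV).2 p.asIdeal
    have hD : IsAffineOpen (Y.basicOpen a) := hV.basicOpen a
    have hle : Y.basicOpen a ≤ V := Y.basicOpen_le a
    refine ⟨Y.basicOpen a, hD, ?_, ?_⟩
    · have h1 : p ∈ PrimeSpectrum.basicOpen a := ha
      rw [← hV.fromSpec_preimage_basicOpen a] at h1
      have h2 : hV.fromSpec p = y := hV.fromSpec_primeIdealOf ⟨y, hyV⟩
      rw [← h2]
      exact h1
    · have hpo := Groth.Agent.Pi1C.EtTraceSch.isPushout_appLE
        (IsPullback.of_horiz_isIso ⟨by simp⟩ : IsPullback (𝟙 X) f f (𝟙 Y)) hV hD hle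
        (f.preimage_mono hle)
      refine isFinLocFreeOfDeg_SpecMap _ (exists_basis hpo hfin (H V hV).1 a ?_ m hm)
      have h1 : (𝟙 Y : Y ⟶ Y).appLE V (Y.basicOpen a) hle = Y.presheaf.map (homOfLE hle).op := by
        simp only [Scheme.Hom.appLE, Scheme.Hom.id_app]
        exact Category.id_comp _
      rw [h1]
      exact RingedSpace.isUnit_res_basicOpen _ a
  choose V hV hy hd using key
  refine Groth.Agent.Picfga.HilbZar.isFinLocFreeOfDeg_of_isPullback_family (ι := Y) _ _
    (fun y => (hV y).fromSpec) (fun y => ?_) (fun y => Spec.map (f.app (V y)))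
    (fun y => ((hV y).preimage f).fromSpec)
    (fun y => Groth.Agent.Grpsch.FibRank.isPullback_fromSpec f (hV y)) hd
  have : y ∈ Set.range (hV y).fromSpec := by rw [(hV y).range_fromSpec]; exact hy y
  obtain ⟨u, hu⟩ := this
  exact ⟨y, u, hu⟩

lemma id_appLE {V W : Y.Opens} (e : W ≤ V) :
    (𝟙 Y : Y ⟶ Y).appLE V W e = Y.presheaf.map (homOfLE e).op := by
  simp only [Scheme.Hom.appLE, Scheme.Hom.id_app]
  exact Category.id_comp _

/-- The Fitting ideal sheaves of a finite morphism. -/
noncomputable def fit (r : ℕ) : Y.IdealSheafData where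
  ideal V := fr (f.app V.1).hom r
  map_ideal_basicOpen V a := by
    have hpo := Groth.Agent.Pi1C.EtTraceSch.isPushout_appLE
      (IsPullback.of_horiz_isIso ⟨by simp⟩ : IsPullback (𝟙 X) f f (𝟙 Y)) V.2 (V.2.basicOpen a)
      (Y.basicOpen_le a) (f.preimage_mono (Y.basicOpen_le a))
    have h := fr_isPushout hpo (IsFinite.finite_app f V V.2) r
    rw [id_appLE] at h
    exact h.symm

lemma fit_ideal (r : ℕ) (V : Y.affineOpens) : (fit f r).ideal V = fr (f.app V.1).hom r := rfl

lemma fit_mono : Monotone (fit f) := fun _ _ h V => fr_mono _ (IsFinite.finite_app f V V.2) h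

lemma fit_zero (h : ∀ V : Y.affineOpens, Function.Injective (f.app V.1).hom) : fit f 0 = ⊥ := by
  apply Scheme.IdealSheafData.ext
  funext V
  exact fr_zero _ (IsFinite.finite_app f V V.2) (h V)

lemma exists_not_mem_support (y : Y) : ∃ r, y ∉ (fit f r).support := by
  obtain ⟨_, ⟨V : Y.Opens, hV, rfl⟩, hyV, -⟩ :=
    Y.isBasis_affineOpens.exists_subset_of_mem_open (Set.mem_univ y) isOpen_univ
  obtain ⟨r, hr⟩ := exists_fr_eq_top (f.app V).hom (IsFinite.finite_app f V hV)
  refine ⟨r, fun h => ?_⟩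
  rw [Scheme.IdealSheafData.mem_support_iff_of_mem (U := ⟨V, hV⟩) hyV, fit_ideal, hr] at h
  simp at h
  exact h hyV

/-- The Fitting ideal sheaves commute with base change. -/
theorem fit_comap {X' Y' : Scheme.{u}} {g' : X' ⟶ X} {f' : X' ⟶ Y'} {g : Y' ⟶ Y} [IsFinite f']
    (sq : IsPullback g' f' f g) (r : ℕ) : (fit f r).comap g = fit f' r := by
  refine Groth.Agent.Divis.IdealComap.ext_of_forall_mem fun x ↦ ?_
  obtain ⟨U, V, -, hxV, -, -, e⟩ :=
    Groth.Agent.Divis.IdealComap.exists_affine_le g x ⊤ trivial ⊤ trivial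
  refine ⟨V, hxV, ?_⟩
  rw [Groth.Agent.Divis.IdealComap.ideal_comap _ g U V e, fit_ideal, fit_ideal]
  exact (fr_isPushout (Groth.Agent.Pi1C.EtTraceSch.isPushout_appLE sq U.2 V.2 e
    (Groth.Agent.Pi1C.EtTraceSch.preimage_le' sq.w e)) (IsFinite.finite_app f U U.2) r).symm

lemma comap_eq_bot {I : Y.IdealSheafData} {W : Scheme.{u}} (w : W ⟶ Y) (h : I ≤ w.ker) :
    I.comap w = ⊥ := by
  rw [← le_bot_iff, ← Scheme.IdealSheafData.le_map_iff_comap_le, Scheme.IdealSheafData.map_bot]
  exact h

/-- The strata. -/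
theorem isFinLocFreeOfDeg_stratum (r : ℕ) :
    Mor2.IsFinLocFreeOfDeg (r + 1) (pullback.snd f
      (((fit f r).subschemeι ⁻¹ᵁ (fit f (r + 1)).support.compl).ι ≫ (fit f r).subschemeι)) := by
  set w := ((fit f r).subschemeι ⁻¹ᵁ (fit f (r + 1)).support.compl).ι ≫ (fit f r).subschemeι with hw
  have h1 := fun k => fit_comap f (IsPullback.of_hasPullback f w) k
  have hker : fit f r ≤ w.ker := by
    have := Scheme.Hom.le_ker_comp ((fit f r).subschemeι ⁻¹ᵁ (fit f (r + 1)).support.compl).ι
      (fit f r).subschemeι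
    rwa [Scheme.IdealSheafData.ker_subschemeι] at this
  refine isFinLocFreeOfDeg_of_fr _ _ fun V hV => ⟨fun k hk => ?_, ?_⟩
  · have h2 : fit (pullback.snd f w) k = ⊥ := by
      rw [← h1]
      exact comap_eq_bot w ((fit_mono f (Nat.lt_succ_iff.mp hk)).trans hker)
    have h3 := congrArg (fun I => Scheme.IdealSheafData.ideal I ⟨V, hV⟩) h2
    exact h3
  · have h2 : fit (pullback.snd f w) (r + 1) = ⊤ := by
      rw [← h1, ← Scheme.IdealSheafData.support_eq_bot_iff, Scheme.IdealSheafData.support_comap,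
        ← le_bot_iff]
      intro x hx
      have hx' : w x ∈ (fit f (r + 1)).support := hx
      have : w x ∈ (fit f (r + 1)).support.compl := by
        rw [hw, Scheme.Hom.comp_apply]
        exact x.2
      exact absurd hx' this
    have h3 := congrArg (fun I => Scheme.IdealSheafData.ideal I ⟨V, hV⟩) h2
    exact h3

end sch

end K392.FitFin
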