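import Groth.Agent.Grpd.K392.ThickenGen
import Groth.Agent.Grpsch.GrpdPt
import Groth.Agent.Grpsch.PtRestrict
import Groth.Agent.Smoothlim.GenFinSch

/-!
# Invariant affine neighbourhoods of finitely many points with generic orbits
-/

set_option autoImplicit false

open CategoryTheory CategoryTheory.Limits AlgebraicGeometry Topology

namespace K392.GenericNhd

open Groth.Agent.Grpsch Groth.Agent.Smoothlim.GenFinSch

universe u

variable {S : Scheme.{u}} (G : Grpd.GroupoidScheme S)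

/-- Finitely many points whose orbits consist of generic points of irreducible components have an
invariant affine open neighbourhood contained in a given invariant open neighbourhood. -/
theorem exists_invariant_affine [IsFinite G.s] [LocallyOfFinitePresentation G.s] [IsFinite G.t]
    [QuasiSeparatedSpace G.U] (m : ℕ) (u : Fin m → G.U)
    (hu : ∀ i (r : G.R), G.s r = u i → ∀ x : G.U, x ⤳ G.t r → x = G.t r)
    (W : G.U.Opens) (huW : ∀ i, u i ∈ W) (hW : G.s ⁻¹ᵁ W = G.t ⁻¹ᵁ W) :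
    ∃ V : G.U.Opens, IsAffineOpen V ∧ (∀ i, u i ∈ V) ∧ V ≤ W ∧ G.s ⁻¹ᵁ V = G.t ⁻¹ᵁ V := by
  have hst := GrpdPt.isPtEquiv G
  let O : Set G.U := ⋃ i, PtRestrict.orbit G.s G.t (u i)
  have hO : O.Finite := Set.finite_iUnion fun i => PtRestrict.orbit_finite G.s G.t (u i)
  have hOinv : ∀ r, G.s r ∈ O → G.t r ∈ O := by
    intro r hr
    obtain ⟨i, hi⟩ := Set.mem_iUnion.mp hr
    exact Set.mem_iUnion.mpr ⟨i, PtRestrict.orbit_inv hst (u i) r hi⟩
  have hOgen : ∀ x ∈ O, IsGen x := by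
    intro x hx
    obtain ⟨i, r, h1, rfl⟩ := Set.mem_iUnion.mp hx
    exact fun y hy => hu i r h1 y hy
  have huO : ∀ i, u i ∈ O := fun i => Set.mem_iUnion.mpr ⟨i, PtRestrict.mem_orbit hst (u i)⟩
  have hOW : O ⊆ W := by
    intro x hx
    obtain ⟨i, r, h1, rfl⟩ := Set.mem_iUnion.mp hx
    exact (SetLike.ext_iff.mp hW r).mp (show G.s r ∈ W by rw [h1]; exact huW i)
  obtain ⟨V, hV, hOV⟩ := exists_isAffineOpen_of_separated O hO
    fun x hx y hy hxy => exists_separation x y (hOgen x hx) (hOgen y hy) hxy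
  let N : G.U.Opens := ⟨InvAffine.core G.s G.t ((V ⊓ W : G.U.Opens) : Set G.U),
    InvAffine.isOpen_core G.s.isClosedMap (V ⊓ W).isOpen⟩
  have hNVW : N ≤ V ⊓ W := InvAffine.core_subset hst ((V ⊓ W : G.U.Opens) : Set G.U)
  have hNV : N ≤ V := hNVW.trans inf_le_left
  have hNinv : ∀ r, G.s r ∈ N → G.t r ∈ N :=
    InvAffine.core_invariant hst ((V ⊓ W : G.U.Opens) : Set G.U)
  have hN := PtRestrict.preimage_eq_of_inv hst N hNinv
  have hON : O ⊆ N := InvAffine.subset_core hOinv fun x hx => ⟨hOV hx, hOW hx⟩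
  let j := PtRestrict.toSpec hV hNV
  obtain ⟨I, hI, hcl⟩ := PtRestrict.exists_ideal_of_isOpenImmersion j
  obtain ⟨h, hh, haff, hOh, hinv, -⟩ := InvAffine.exists_invariant_basicOpen (G.s ∣_ N)
    (PtRestrict.tRes G.s G.t N hN) (PtRestrict.isPtEquiv_res hst N hN) j I hI hcl
    Set.univ isClosed_univ (fun _ _ => trivial) (N.ι ⁻¹' O)
    (hO.preimage N.ι.isOpenEmbedding.injective.injOn)
    (PtRestrict.preimage_inv N hN _ hOinv)
    (Set.subset_univ _) (Or.inl (by
      intro x hx y _ hyx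
      apply N.ι.isOpenEmbedding.injective
      exact hOgen _ hx _ (hyx.map N.ι.continuous)))
  refine ⟨N.ι ''ᵁ (j ⁻¹ᵁ PrimeSpectrum.basicOpen h), haff.image_of_isOpenImmersion N.ι,
    fun i => ?_, ?_, ?_⟩
  · exact ⟨⟨u i, hON (huO i)⟩, hOh _ (huO i), rfl⟩
  · rintro _ ⟨x, -, rfl⟩
    exact (hNVW x.2).2
  · exact PtRestrict.preimage_eq_of_inv hst _
      (PtRestrict.image_inv N hN _ (fun r hr => hinv r trivial hr))

end K392.GenericNhd
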