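import Groth.Agent.Grpd.K392.SubGrpd
import Groth.Agent.Grpsch.FieldDim
import Groth.Agent.FlatMor.K263.ToImage
import Groth.Agent.Ega1.ReducedSub
import Groth.Agent.Sga3C.GeomRedPerf

/-!
# Images of morphisms of groupoids over a field

* `data`: the scheme-theoretic image of a quasi-compact morphism of groupoids inducing an isomorphism on
  objects, over a field.
* `dataRed`: the reduced closure of the image, over a perfect field.
-/

set_option autoImplicit false
universe u

open CategoryTheory CategoryTheory.Limits AlgebraicGeometry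

namespace K392.HomImage

open Groth.Agent.Grpsch.Points Groth.Agent.Grpsch.FieldGrpd

/-- A morphism whose composite with a schematically dominant one factors through a closed immersion factors
through it. -/
theorem exists_lift {P T X Z : Scheme.{u}} (p : P ⟶ T) [IsSchemeTheoreticallyDominant p]
    (z : Z ⟶ X) [IsClosedImmersion z] (g : T ⟶ X) (q : P ⟶ Z) (h : p ≫ g = q ≫ z) :
    ∃ l : T ⟶ Z, l ≫ z = g := by
  have h1 : z.ker ≤ g.ker := by
    have h2 : (p ≫ g).ker = g.ker := by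
      rw [Scheme.Hom.ker_comp, p.ker_eq_bot, Scheme.IdealSheafData.map_bot]
    rw [← h2, h]
    exact Scheme.Hom.le_ker_comp q z
  exact ⟨IsClosedImmersion.lift z g h1, IsClosedImmersion.lift_fac z g h1⟩

/-- the morphism `R₁ ×_U R₁ → Z ×_U Z`. -/
theorem map_dominant {U R₁ Z : Scheme.{u}} {k : Type u} [Field k] (eU : U ≅ Spec (CommRingCat.of k))
    (p : R₁ ⟶ Z) [IsSchemeTheoreticallyDominant p] [QuasiCompact p] (s t : Z ⟶ U) :
    IsSchemeTheoreticallyDominant
      (pullback.map (p ≫ s) (p ≫ t) s t p p (𝟙 U) (by simp) (by simp)) := by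
  have ht : Flat t := Groth.Agent.Grpsch.FieldDim.flat_to_field eU t
  have hs : Flat (p ≫ s) := Groth.Agent.Grpsch.FieldDim.flat_to_field eU _
  -- `R₁ ×_U Z → Z ×_U Z`
  let a : pullback (p ≫ s) t ⟶ pullback s t := pullback.map (p ≫ s) t s t p (𝟙 _) (𝟙 U) (by simp) (by simp)
  let b : pullback (p ≫ s) (p ≫ t) ⟶ pullback (p ≫ s) t :=
    pullback.map (p ≫ s) (p ≫ t) (p ≫ s) t (𝟙 _) p (𝟙 U) (by simp) (by simp)
  have hab : pullback.map (p ≫ s) (p ≫ t) s t p p (𝟙 U) (by simp) (by simp) = b ≫ a := by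
    apply pullback.hom_ext <;> simp [a, b, pullback.map, pullback.lift_fst, pullback.lift_snd, pullback.lift_fst_assoc]
  have ha : IsPullback (pullback.fst (p ≫ s) t) a p (pullback.fst s t) := by
    refine IsPullback.of_bot ?_ (by simp [a, pullback.map, pullback.lift_fst]) (IsPullback.of_hasPullback s t).flip.flip
    simpa [a, pullback.map, pullback.lift_snd] using IsPullback.of_hasPullback (p ≫ s) t
  have hb : IsPullback (pullback.snd (p ≫ s) (p ≫ t)) b p (pullback.snd (p ≫ s) t) := by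
    refine IsPullback.of_bot ?_ (by simp [b, pullback.map, pullback.lift_snd]) (IsPullback.of_hasPullback (p ≫ s) t).flip
    simpa [b, pullback.map, pullback.lift_fst] using (IsPullback.of_hasPullback (p ≫ s) (p ≫ t)).flip
  have h1 : IsSchemeTheoreticallyDominant a := IsSchemeTheoreticallyDominant.of_isPullback ha
  have h2 : IsSchemeTheoreticallyDominant b := IsSchemeTheoreticallyDominant.of_isPullback hb
  rw [hab]
  infer_instance

variable {S : Scheme.{u}} {G₁ G₂ : Grpd.GroupoidScheme S} (f : Grpd.GroupoidScheme.Hom G₁ G₂)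

/-- The scheme-theoretic image is a wide subgroupoid. -/
theorem exists_data [IsIso f.fU] [QuasiCompact f.fR] {k : Type u} [Field k]
    (eU : G₂.U ≅ Spec (CommRingCat.of k)) :
    ∃ D : SubGrpd.Data G₂, IsClosedImmersion D.z ∧ D.z.ker = f.fR.ker := by
  let z := f.fR.imageι
  let p := f.fR.toImage
  have hpz : p ≫ z = f.fR := f.fR.toImage_imageι
  have hp : IsSchemeTheoreticallyDominant p := K263.ToImage.isSchemeTheoreticallyDominant_toImage _
  have hz : IsClosedImmersion z := inferInstance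
  -- the identity
  have he : (inv f.fU ≫ G₁.e ≫ p) ≫ z = G₂.e := by
    rw [Category.assoc, Category.assoc, hpz, comm_e, IsIso.inv_hom_id_assoc]
  -- the inverse
  obtain ⟨i, hi⟩ := exists_lift p z (z ≫ G₂.i) (G₁.i ≫ p) (by
    rw [← Category.assoc, hpz, Category.assoc, hpz, comm_i])
  -- the composition
  have hs : p ≫ z ≫ G₂.s = G₁.s ≫ f.fU := by rw [← Category.assoc, hpz, f.comm_s]
  have ht : p ≫ z ≫ G₂.t = G₁.t ≫ f.fU := by rw [← Category.assoc, hpz, f.comm_t]
  have hst : pullback.fst (p ≫ z ≫ G₂.s) (p ≫ z ≫ G₂.t) ≫ G₁.s =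
      pullback.snd (p ≫ z ≫ G₂.s) (p ≫ z ≫ G₂.t) ≫ G₁.t := by
    rw [← cancel_mono f.fU, Category.assoc, Category.assoc, ← hs, ← ht, pullback.condition]
  have hm := map_dominant eU p (z ≫ G₂.s) (z ≫ G₂.t)
  obtain ⟨c, hc⟩ := exists_lift (pullback.map (p ≫ z ≫ G₂.s) (p ≫ z ≫ G₂.t) (z ≫ G₂.s) (z ≫ G₂.t) p p
      (𝟙 _) _ _) z
    (mul G₂ (pullback.fst (z ≫ G₂.s) (z ≫ G₂.t) ≫ z) (pullback.snd _ _ ≫ z)
      (by rw [Category.assoc, Category.assoc, pullback.condition]))
    (mul G₁ _ _ hst ≫ p) (by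
      refine (comp_mul G₂ _ _ _ _).trans (Eq.trans ?_ ((Category.assoc _ _ _).trans
        ((congrArg (fun g => _ ≫ g) hpz).trans (hom_mul f _ _ hst))).symm)
      apply mul_congr
      · exact (pullback.lift_fst_assoc _ _ _ _).trans ((Category.assoc _ _ _).trans
          (congrArg (fun g => _ ≫ g) hpz))
      · exact (pullback.lift_snd_assoc _ _ _ _).trans ((Category.assoc _ _ _).trans
          (congrArg (fun g => _ ≫ g) hpz)))
  exact ⟨⟨_, z, inferInstance, _, he, i, hi, c, hc⟩, hz, Scheme.IdealSheafData.ker_subschemeι _⟩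

/-- The reduced closure of the image is a wide subgroupoid, over a perfect field. -/
theorem exists_data_reduced [IsIso f.fU] {k : Type u} [Field k] [PerfectField k]
    (eU : G₂.U ≅ Spec (CommRingCat.of k)) :
    ∃ D : SubGrpd.Data G₂, IsClosedImmersion D.z ∧ IsReduced D.Z ∧
      Set.range D.z = closure (Set.range f.fR) := by
  let I := Scheme.IdealSheafData.vanishingIdeal ⟨closure (Set.range f.fR), isClosed_closure⟩
  let z := I.subschemeι
  have hred : IsReduced I.subscheme := Groth.Agent.Ega1.ReducedSub.isReduced_subscheme_vanishingIdeal _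
  have hz : IsClosedImmersion z := inferInstance
  have hrz : Set.range z = closure (Set.range f.fR) := by
    simp [z, I]
  have hne : Nonempty G₂.U := ⟨eU.inv (IsLocalRing.closedPoint k)⟩
  have hU : IsIntegral G₂.U := isIntegral_of_isOpenImmersion eU.hom
  have hU' : Subsingleton G₂.U := eU.hom.homeomorph.injective.subsingleton
  -- the identity
  obtain ⟨e, he⟩ := Groth.Agent.Ega1.ReducedSub.exists_factor_of_range_subset G₂.e z (by
    rw [hrz]
    rintro _ ⟨x, rfl⟩
    refine subset_closure ⟨(inv f.fU ≫ G₁.e) x, ?_⟩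
    rw [← Scheme.Hom.comp_apply, Category.assoc, comm_e, IsIso.inv_hom_id_assoc])
  obtain ⟨i, hi⟩ := Groth.Agent.Ega1.ReducedSub.exists_factor_of_range_subset (z ≫ G₂.i) z (by
    rw [hrz]
    rintro _ ⟨x, rfl⟩
    rw [Scheme.Hom.comp_apply]
    exact i_mem_closure f _ (hrz.le ⟨x, rfl⟩))
  have h1 : IsReduced (pullback (z ≫ G₂.s) (z ≫ G₂.t)) := by
    have h2 : GeometricallyReduced ((z ≫ G₂.s) ≫ eU.hom) :=
      Groth.Agent.Sga3C.GeomRedPerf.geometricallyReduced_of_isReduced _
    have h3 := Groth.Agent.Sga3C.GeomRed.isReduced_pullback ((z ≫ G₂.s) ≫ eU.hom) ((z ≫ G₂.t) ≫ eU.hom)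
    have h4 : IsIso (pullback.map (z ≫ G₂.s) (z ≫ G₂.t) ((z ≫ G₂.s) ≫ eU.hom) ((z ≫ G₂.t) ≫ eU.hom)
      (𝟙 _) (𝟙 _) eU.hom (by simp) (by simp)) := inferInstance
    exact isReduced_of_isOpenImmersion (pullback.map (z ≫ G₂.s) (z ≫ G₂.t) ((z ≫ G₂.s) ≫ eU.hom)
      ((z ≫ G₂.t) ≫ eU.hom) (𝟙 _) (𝟙 _) eU.hom (by simp) (by simp))
  obtain ⟨c, hc⟩ := Groth.Agent.Ega1.ReducedSub.exists_factor_of_range_subset
    (mul G₂ (pullback.fst (z ≫ G₂.s) (z ≫ G₂.t) ≫ z) (pullback.snd _ _ ≫ z)
      (by rw [Category.assoc, Category.assoc, pullback.condition])) z (by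
    rw [hrz]
    rintro _ ⟨x, rfl⟩
    rw [mul, Scheme.Hom.comp_apply]
    refine mem_closure_c f _ ?_ ?_
    · rw [← Scheme.Hom.comp_apply, pullback.lift_fst, Scheme.Hom.comp_apply]
      exact hrz.le ⟨_, rfl⟩
    · rw [← Scheme.Hom.comp_apply, pullback.lift_snd, Scheme.Hom.comp_apply]
      exact hrz.le ⟨_, rfl⟩)
  exact ⟨⟨_, z, inferInstance, _, he, i, hi, c, hc⟩, hz, hred, hrz⟩

end K392.HomImage
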