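import Groth.Agent.Grpd.K392.RankPoly
import Mathlib.RingTheory.Flat.Basic
import Mathlib.Algebra.MvPolynomial.Basic
import Mathlib.LinearAlgebra.FreeModule.Basic

/-!
# Base change of invariants of a finite locally free affine groupoid
-/

set_option autoImplicit false
universe u

open Polynomial

namespace K392.InvBC

open Groth.Agent.Grpsch.AffGrpd K392.RankPoly

variable {A B C C' C1 C2 : Type u} [CommRing A] [CommRing B] [CommRing C] [CommRing C']
  [CommRing C1] [CommRing C2]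

/-- functoriality of `POut κ g` in `κ`. -/
noncomputable def θ (κ1 : C →+* C1) (κ2 : C →+* C2) (ε : C1 →+* C2) (hε : ε.comp κ1 = κ2)
    (g : C →+* A) : POut κ1 g →+* POut κ2 g :=
  POut.desc ((POut.inl κ2 g).comp ε) (POut.inr κ2 g) (by rw [RingHom.comp_assoc, hε, POut.w])

section
variable (κ1 : C →+* C1) (κ2 : C →+* C2) (ε : C1 →+* C2) (hε : ε.comp κ1 = κ2)

lemma θ_inl (g : C →+* A) (c : C1) : θ κ1 κ2 ε hε g (POut.inl κ1 g c) = POut.inl κ2 g (ε c) :=
  POut.desc_inl _ _ _ _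

lemma θ_inr (g : C →+* A) (a : A) : θ κ1 κ2 ε hε g (POut.inr κ1 g a) = POut.inr κ2 g a :=
  POut.desc_inr _ _ _ _

variable (G : RGrpd A B) (γ : C →+* A) (hγ : G.s.comp γ = G.t.comp γ)

lemma θ_s (z : POut κ1 γ) :
    θ κ1 κ2 ε hε (G.s.comp γ) (G.bcS γ κ1 z) = G.bcS γ κ2 (θ κ1 κ2 ε hε γ z) := by
  have : (θ κ1 κ2 ε hε (G.s.comp γ)).comp (G.bcS γ κ1) = (G.bcS γ κ2).comp (θ κ1 κ2 ε hε γ) := by
    apply POut.hom_ext
    · ext c
      simp only [RingHom.comp_apply, RGrpd.bcS_inl, θ_inl]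
    · ext a
      simp only [RingHom.comp_apply, RGrpd.bcS_inr, θ_inr]
  exact congrArg (fun χ : POut κ1 γ →+* _ => χ z) this

lemma θ_t (z : POut κ1 γ) :
    θ κ1 κ2 ε hε (G.s.comp γ) (G.bcT γ hγ κ1 z) = G.bcT γ hγ κ2 (θ κ1 κ2 ε hε γ z) := by
  have : (θ κ1 κ2 ε hε (G.s.comp γ)).comp (G.bcT γ hγ κ1) =
      (G.bcT γ hγ κ2).comp (θ κ1 κ2 ε hε γ) := by
    apply POut.hom_ext
    · ext c
      simp only [RingHom.comp_apply, RGrpd.bcT_inl, θ_inl]
    · ext a
      simp only [RingHom.comp_apply, RGrpd.bcT_inr, θ_inr]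
  exact congrArg (fun χ : POut κ1 γ →+* _ => χ z) this

variable {n : ℕ} (D : DB G.s n)

lemma bcIso_inr (b : B) : G.bcIso γ κ1 (POut.inr _ _ b) = POut.inr κ1 (G.s.comp γ) b :=
  POut.desc_inr _ _ _ _

lemma bcDB_b (i : Fin n) : (G.bcDB γ κ1 D).b i = POut.inr κ1 (G.s.comp γ) (D.b i) :=
  bcIso_inr κ1 G γ (D.b i)

lemma bcDB_l_inr (i : Fin n) (b : B) :
    (G.bcDB γ κ1 D).l i (POut.inr κ1 (G.s.comp γ) b) = POut.inr κ1 γ (D.l i b) := by
  rw [← bcIso_inr]
  change (D.baseChange (POut.inr κ1 γ)).l i ((G.bcIso γ κ1).symm (G.bcIso γ κ1 _)) = _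
  rw [RingEquiv.symm_apply_apply]
  exact D.baseChange_l _ i b

lemma bcDB_l (i : Fin n) (c : C1) (b : B) :
    (G.bcDB γ κ1 D).l i (POut.inl κ1 (G.s.comp γ) c * POut.inr κ1 (G.s.comp γ) b) =
      POut.inl κ1 γ c * POut.inr κ1 γ (D.l i b) := by
  rw [← G.bcS_inl γ κ1 c, (G.bcDB γ κ1 D).l_mul, bcDB_l_inr]

lemma θ_l (i : Fin n) (y : POut κ1 (G.s.comp γ)) :
    (G.bcDB γ κ2 D).l i (θ κ1 κ2 ε hε (G.s.comp γ) y) =
      θ κ1 κ2 ε hε γ ((G.bcDB γ κ1 D).l i y) := by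
  induction y using POut.induction with
  | zero => rw [map_zero, map_zero, map_zero, map_zero]
  | mul c b => rw [bcDB_l, map_mul, θ_inl, θ_inr, bcDB_l, map_mul, θ_inl, θ_inr]
  | add z w hz hw => rw [map_add, map_add, hz, hw, map_add, map_add]

lemma θ_nm (y : POut κ1 (G.s.comp γ)) :
    (G.bcDB γ κ2 D).nm (θ κ1 κ2 ε hε (G.s.comp γ) y) =
      θ κ1 κ2 ε hε γ ((G.bcDB γ κ1 D).nm y) := by
  rw [DB.nm, DB.nm, RingHom.map_det]
  congr 1
  ext i j
  have h1 : (G.bcDB γ κ2 D).mat (θ κ1 κ2 ε hε (G.s.comp γ) y - 1) i j =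
      θ κ1 κ2 ε hε γ ((G.bcDB γ κ1 D).mat (y - 1) i j) := by
    rw [DB.mat, DB.mat, ← θ_l, bcDB_b, bcDB_b]
    congr 1
    rw [map_mul (θ κ1 κ2 ε hε (G.s.comp γ)), map_sub (θ κ1 κ2 ε hε (G.s.comp γ)), map_one, θ_inr]
  simp [h1, Matrix.one_apply, apply_ite]

lemma rp_bcDB : rp (G.bcDB γ κ1 D) = (rp D).map (POut.inr κ1 γ) := by
  have h1 : (G.bcDB γ κ1 D).mat 1 = (D.mat 1).map (POut.inr κ1 γ) := by
    ext i j
    rw [DB.mat, one_mul, bcDB_b, bcDB_l_inr, Matrix.map_apply, DB.mat, one_mul]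
  rw [rp, rp, h1, map_comp, Matrix.charpolyRev, Matrix.charpolyRev, ← coe_mapRingHom,
    RingHom.map_det]
  congr 1
  · congr 1
    ext i j
    simp [Matrix.one_apply, apply_ite]
  · simp

end

section main

variable (κ : C →+* C') (G : RGrpd A B) (γ : C →+* A)

/-- the comparison `C'[X] ⊗_C A → (C' ⊗_C A)[X]` -/
noncomputable def ρ : POut ((Polynomial.C : C' →+* C'[X]).comp κ) γ →+* (POut κ γ)[X] :=
  POut.desc (Polynomial.mapRingHom (POut.inl κ γ)) (Polynomial.C.comp (POut.inr κ γ)) (by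
    ext1 c
    simp only [RingHom.comp_apply, coe_mapRingHom, map_C, POut.w_apply])

lemma ρ_inl (p : C'[X]) : ρ κ γ (POut.inl _ _ p) = p.map (POut.inl κ γ) :=
  POut.desc_inl _ _ _ _

lemma ρ_inr (a : A) : ρ κ γ (POut.inr _ _ a) = Polynomial.C (POut.inr κ γ a) :=
  POut.desc_inr _ _ _ _

lemma ρ_θ (f : POut κ γ) : ρ κ γ (θ κ _ (Polynomial.C : C' →+* C'[X]) rfl γ f) = Polynomial.C f := by
  have : (ρ κ γ).comp (θ κ _ (Polynomial.C : C' →+* C'[X]) rfl γ) = Polynomial.C := by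
    apply POut.hom_ext
    · ext1 c
      simp only [RingHom.comp_apply, θ_inl, ρ_inl, map_C]
    · ext1 a
      simp only [RingHom.comp_apply, θ_inr, ρ_inr]
  exact congrArg (fun χ : POut κ γ →+* (POut κ γ)[X] => χ f) this

/-- every element of a pushout is a finite sum of pure tensors, indexed by `Fin m`. -/
lemma exists_sum (f : POut κ γ) : ∃ (m : ℕ) (c : Fin m → C') (a : Fin m → A),
    f = ∑ j, POut.inl κ γ (c j) * POut.inr κ γ (a j) := by
  induction f using POut.induction with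
  | zero => exact ⟨0, 0, 0, by simp⟩
  | mul c a => exact ⟨1, fun _ => c, fun _ => a, by simp⟩
  | add z w hz hw =>
    obtain ⟨m, c, a, rfl⟩ := hz
    obtain ⟨m', c', a', rfl⟩ := hw
    refine ⟨m + m', Fin.append c c', Fin.append a a', ?_⟩
    rw [Fin.sum_univ_add]
    simp [Fin.append_left, Fin.append_right]

variable {G γ} (H : G.IsQuot γ) {n : ℕ} (D : DB G.s n)

include H D in
/-- Key: a polynomial over `C'` whose image is `Σ_r e_r (X - f)^r`. -/
lemma exists_poly (f : POut κ γ) (hf : G.bcS γ κ f = G.bcT γ H.cond κ f) :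
    ∃ P : C'[X], P.map (POut.inl κ γ) =
      (rp D).eval₂ (Polynomial.C.comp (POut.inr κ γ)) (X - Polynomial.C f) := by
  obtain ⟨m, c, a, hfs⟩ := exists_sum κ γ f
  let C1 := MvPolynomial (ULift.{u} (Option (Fin m))) C
  let κ1 : C →+* C1 := MvPolynomial.C
  have hκ1 : κ1.Flat := by
    have : Module.Flat C C1 := inferInstance
    have h1 : (algebraMap C C1).Flat := by rwa [RingHom.flat_algebraMap_iff]
    exact h1
  let κ2 : C →+* C'[X] := (Polynomial.C : C' →+* C'[X]).comp κ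
  let v : ULift.{u} (Option (Fin m)) → C'[X] := fun j => match j.down with
    | none => X
    | some j => Polynomial.C (c j)
  let ε : C1 →+* C'[X] := MvPolynomial.eval₂Hom κ2 v
  have hε : ε.comp κ1 = κ2 := by
    ext1 x
    exact MvPolynomial.eval₂Hom_C _ _ _
  have hεX : ∀ j, ε (MvPolynomial.X j) = v j := fun j => MvPolynomial.eval₂Hom_X' _ _ _
  let H1 := H.baseChange κ1 hκ1
  let D1 : DB (G.baseChange γ H.cond κ1).s n := G.bcDB γ κ1 D
  let F : POut κ1 γ := POut.inl κ1 γ (MvPolynomial.X ⟨none⟩) -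
    ∑ j, POut.inl κ1 γ (MvPolynomial.X ⟨some j⟩) * POut.inr κ1 γ (a j)
  obtain ⟨P1, hP1⟩ := H1.ex _ (RGrpd.nm_invariant _ D1 F)
  refine ⟨ε P1, ?_⟩
  let f2 := θ κ κ2 (Polynomial.C : C' →+* C'[X]) rfl γ f
  have hF : θ κ1 κ2 ε hε γ F = POut.inl κ2 γ X - f2 := by
    have h1 : f2 = ∑ j, POut.inl κ2 γ (Polynomial.C (c j)) * POut.inr κ2 γ (a j) := by
      change θ κ κ2 (Polynomial.C : C' →+* C'[X]) rfl γ f = _
      rw [hfs, map_sum]
      refine Finset.sum_congr rfl fun j _ => ?_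
      rw [map_mul, θ_inl, θ_inr]
    rw [h1, map_sub, θ_inl, hεX, map_sum]
    congr 1
    refine Finset.sum_congr rfl fun j _ => ?_
    rw [map_mul, θ_inl, θ_inr, hεX]
  have e1 : POut.inl κ2 γ (ε P1) = (rp (G.bcDB γ κ2 D)).eval (POut.inl κ2 γ X - f2) := by
    have h1 : POut.inl κ2 γ (ε P1) = θ κ1 κ2 ε hε γ (D1.nm (G.bcT γ H.cond κ1 F)) := by
      rw [← θ_inl κ1 κ2 ε hε]
      exact congrArg _ hP1
    have h2 : G.bcT γ H.cond κ2 (POut.inl κ2 γ X - f2) = G.bcS γ κ2 (POut.inl κ2 γ X - f2) := by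
      rw [map_sub, map_sub, G.bcT_inl, G.bcS_inl]
      congr 1
      change G.bcT γ H.cond κ2 (θ κ κ2 _ rfl γ f) = G.bcS γ κ2 (θ κ κ2 _ rfl γ f)
      rw [← θ_s, ← θ_t, hf]
    rw [h1]
    refine (θ_nm κ1 κ2 ε hε G γ D _).symm.trans ?_
    rw [θ_t, hF, h2]
    exact nm_g (G.bcDB γ κ2 D) _
  have e2 := congrArg (ρ κ γ) e1
  rw [rp_bcDB, eval_map] at e2
  rw [ρ_inl, hom_eval₂, map_sub, ρ_inl, map_X, ρ_θ] at e2
  rw [e2]
  congr 1
  ext1 x
  exact ρ_inr κ γ x

include H D in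
/-- (a): for every invariant `f` of the base change some power of `X - f` comes from `C'[X]`. -/
theorem exists_pow (f : POut κ γ) (hf : G.bcS γ κ f = G.bcT γ H.cond κ f) :
    ∃ (N : ℕ) (P : C'[X]), 0 < N ∧ P.map (POut.inl κ γ) = (X - Polynomial.C f) ^ N := by
  obtain ⟨Q, hQ⟩ := exists_poly κ H D f hf
  have hlift : ∀ k, ∃ c : C, γ c = (rp D).coeff k := fun k =>
    H.ex _ (coeff_rp_invariant G D k)
  choose ē hē using hlift
  let N := ((rp D).natDegree).factorial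
  refine ⟨N, ∑ r ∈ (rp D).support, Polynomial.C (κ (ē r)) * Q ^ (N / r),
    Nat.factorial_pos _, ?_⟩
  let E : ℕ → (POut κ γ)[X] := fun r => Polynomial.C (POut.inr κ γ ((rp D).coeff r))
  have hE : ∀ r, (Polynomial.C (κ (ē r))).map (POut.inl κ γ) = E r := by
    intro r
    rw [map_C, POut.w_apply, hē]
  have hEE : ∀ r s, E r * E s = if r = s then E s else 0 := by
    intro r s
    simp only [E]
    rw [← C_mul, ← map_mul, coeff_mul_coeff]
    split_ifs
    · rfl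
    · rw [map_zero, map_zero]
  set Z : (POut κ γ)[X] := X - Polynomial.C f with hZ
  have hQ' : Q.map (POut.inl κ γ) = ∑ s ∈ (rp D).support, E s * Z ^ s := by
    rw [hQ, eval₂_eq_sum, Polynomial.sum]
    rfl
  have hEQ : ∀ r ∈ (rp D).support, E r * Q.map (POut.inl κ γ) = E r * Z ^ r := by
    intro r hr
    rw [hQ', Finset.mul_sum]
    rw [Finset.sum_congr rfl (g := fun s => if r = s then E r * Z ^ r else 0) (fun s _ => by
      rw [← mul_assoc, hEE]
      split_ifs with h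
      · rw [h]
      · rw [zero_mul])]
    rw [Finset.sum_ite_eq, if_pos hr]
  have hEQk : ∀ r ∈ (rp D).support, ∀ k : ℕ,
      E r * (Q.map (POut.inl κ γ)) ^ k = E r * Z ^ (r * k) := by
    intro r hr k
    induction k with
    | zero => simp
    | succ k ih =>
      calc E r * Q.map (POut.inl κ γ) ^ (k + 1)
          = (E r * Q.map (POut.inl κ γ) ^ k) * Q.map (POut.inl κ γ) := by rw [pow_succ]; ring
        _ = (E r * Q.map (POut.inl κ γ)) * Z ^ (r * k) := by rw [ih]; ring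
        _ = E r * Z ^ (r * (k + 1)) := by rw [hEQ r hr]; ring
  have hr0 : ∀ r ∈ (rp D).support, r ≠ 0 := by
    rintro r hr rfl
    rw [mem_support_iff] at hr
    exact hr (coeff_zero_of_injective D (fun x y hxy => by
      have := congrArg G.e hxy
      rwa [G.e_s_apply, G.e_s_apply] at this))
  rw [Polynomial.map_sum]
  have h1 : ∀ r ∈ (rp D).support,
      (Polynomial.C (κ (ē r)) * Q ^ (N / r)).map (POut.inl κ γ) = E r * Z ^ N := by
    intro r hr
    rw [Polynomial.map_mul, hE, Polynomial.map_pow, hEQk r hr, Nat.mul_div_cancel']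
    exact Nat.dvd_factorial (Nat.pos_of_ne_zero (hr0 r hr)) (le_natDegree_of_mem_supp r hr)
  rw [Finset.sum_congr rfl h1, ← Finset.sum_mul]
  have h2 : ∑ r ∈ (rp D).support, E r = 1 := by
    have h3 := congrArg (fun x => Polynomial.C (POut.inr κ γ x)) (sum_coeff D)
    simp only [map_one] at h3
    rw [← h3, Polynomial.sum, map_sum, map_sum]
  rw [h2, one_mul]

end main

end K392.InvBC
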