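import Groth.Agent.Grpd.K392.InvBC
import Mathlib.AlgebraicGeometry.Pullbacks
import Mathlib.AlgebraicGeometry.PullbackCarrier
import Mathlib.Algebra.Category.Ring.Constructions

/-!
# Base change of invariants: tensor product form
-/

set_option autoImplicit false
universe u

open Polynomial TensorProduct CategoryTheory AlgebraicGeometry

namespace K392.InvBCFin

open Groth.Agent.Grpsch.AffGrpd

/-- (b), general form. -/
theorem isNilpotent_of_includeRight_eq_zero {C A C' : Type u} [CommRing C] [CommRing A]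
    [CommRing C'] [Algebra C A] [Algebra C C'] [Algebra.IsIntegral C A]
    (hinj : Function.Injective (algebraMap C A)) (c : C')
    (hc : (Algebra.TensorProduct.includeRight : C' →ₐ[C] A ⊗[C] C') c = 0) : IsNilpotent c := by
  have h1 : Surjective (Spec.map (CommRingCat.ofHom (algebraMap C A))) := by
    constructor
    have : (algebraMap C A).IsIntegral := algebraMap_isIntegral_iff.mpr inferInstance
    exact this.comap_surjective hinj
  have h2 := isPullback_SpecMap_of_isPushout _ _ _ _ (CommRingCat.isPushout_tensorProduct C A C')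
  have h3 := MorphismProperty.of_isPullback (P := @Surjective) h2 h1
  rw [nilpotent_iff_mem_prime]
  intro q hq
  obtain ⟨Q, hQ⟩ := h3.surj (⟨q, hq⟩ : PrimeSpectrum C')
  have h4 : q = Ideal.comap (Algebra.TensorProduct.includeRight : C' →ₐ[C] A ⊗[C] C').toRingHom
      Q.asIdeal := (congrArg PrimeSpectrum.asIdeal hQ).symm
  rw [h4, Ideal.mem_comap]
  change (Algebra.TensorProduct.includeRight : C' →ₐ[C] A ⊗[C] C') c ∈ _
  rw [hc]
  exact Ideal.zero_mem _

/-- (c), general form. -/
theorem mem_range_of_flat {C A B C' : Type u} [CommRing C] [CommRing A] [CommRing B]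
    [CommRing C'] [Algebra C A] [Algebra C B] [Algebra C C'] [Module.Flat C C'] (s t : A →ₗ[C] B)
    (hst : ∀ c, s (algebraMap C A c) = t (algebraMap C A c))
    (hex : ∀ a, s a = t a → a ∈ Set.range (algebraMap C A)) (f : A ⊗[C] C')
    (h : s.rTensor C' f = t.rTensor C' f) :
    f ∈ Set.range (Algebra.TensorProduct.includeRight : C' →ₐ[C] A ⊗[C] C') := by
  have hex0 : Function.Exact (Algebra.linearMap C A) (s - t) := by
    intro a
    rw [LinearMap.sub_apply, sub_eq_zero]
    refine ⟨fun h => hex a h, ?_⟩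
    rintro ⟨c, rfl⟩
    exact hst c
  have h1 := Module.Flat.rTensor_exact C' hex0
  have h2 : (s - t).rTensor C' f = 0 := by
    rw [LinearMap.rTensor_sub, LinearMap.sub_apply, h, sub_self]
  obtain ⟨z, hz⟩ := (h1 f).mp h2
  obtain ⟨c', rfl⟩ := (TensorProduct.lid C C').symm.surjective z
  refine ⟨c', ?_⟩
  rw [← hz, TensorProduct.lid_symm_apply, LinearMap.rTensor_tmul]
  simp

section
variable {A B C C' : Type u} [CommRing A] [CommRing B] [CommRing C] [CommRing C']
  [Algebra C A] [Algebra C C'] (G : RGrpd A B) (H : G.IsQuot (algebraMap C A))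
  [Algebra C B] (hB : ∀ c, algebraMap C B c = G.s (algebraMap C A c))

/-- the comparison -/
lemma exists_toPOut {X : Type u} [CommRing X] [Algebra C X] :
    ∃ u : X ⊗[C] C' →+* POut (algebraMap C C') (algebraMap C X),
      ∀ x c, u (x ⊗ₜ c) = POut.inr _ _ x * POut.inl _ _ c := by
  let : Algebra C (POut (algebraMap C C') (algebraMap C X)) :=
    ((POut.inr (algebraMap C C') (algebraMap C X)).comp (algebraMap C X)).toAlgebra
  let φ : X →ₐ[C] POut (algebraMap C C') (algebraMap C X) :=
    { POut.inr (algebraMap C C') (algebraMap C X) with commutes' := fun _ => rfl }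
  let ψ : C' →ₐ[C] POut (algebraMap C C') (algebraMap C X) :=
    { POut.inl (algebraMap C C') (algebraMap C X) with
      commutes' := fun c => POut.w_apply _ _ c }
  refine ⟨(Algebra.TensorProduct.productMap φ ψ : _ →+* _), fun x c => ?_⟩
  exact Algebra.TensorProduct.productMap_apply_tmul φ ψ x c

/-- the comparison in the other direction -/
lemma exists_ofPOut {X : Type u} [CommRing X] [Algebra C X] :
    ∃ v : POut (algebraMap C C') (algebraMap C X) →+* X ⊗[C] C',
      (∀ x, v (POut.inr _ _ x) = x ⊗ₜ 1) ∧ ∀ c, v (POut.inl _ _ c) = 1 ⊗ₜ c := by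
  let φ : X →ₐ[C] X ⊗[C] C' := Algebra.TensorProduct.includeLeft
  let ψ : C' →ₐ[C] X ⊗[C] C' := Algebra.TensorProduct.includeRight
  refine ⟨POut.desc (ψ : C' →+* X ⊗[C] C') (φ : X →+* X ⊗[C] C') ?_, fun x => ?_, fun c => ?_⟩
  · ext c
    change ψ (algebraMap C C' c) = φ (algebraMap C X c)
    rw [ψ.commutes, φ.commutes]
  · exact POut.desc_inr _ _ _ _
  · exact POut.desc_inl _ _ _ _

include H hB in
theorem exists_pow {n : ℕ} (D : DB G.s n) (sT tT : A ⊗[C] C' →ₐ[C] B ⊗[C] C')
    (hs : ∀ (a : A) (c : C'), sT (a ⊗ₜ c) = G.s a ⊗ₜ c)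
    (ht : ∀ (a : A) (c : C'), tT (a ⊗ₜ c) = G.t a ⊗ₜ c) (f : A ⊗[C] C') (hf : sT f = tT f) :
    ∃ (N : ℕ) (P : Polynomial C'), 0 < N ∧
      Polynomial.map (Algebra.TensorProduct.includeRight : C' →ₐ[C] A ⊗[C] C').toRingHom P =
        (Polynomial.X - Polynomial.C f) ^ N := by
  have hB' : algebraMap C B = G.s.comp (algebraMap C A) := RingHom.ext hB
  obtain ⟨u, hu⟩ := exists_toPOut (C := C) (C' := C') (X := A)
  obtain ⟨w, hw⟩ := exists_toPOut (C := C) (C' := C') (X := B)
  obtain ⟨v, hv1, hv2⟩ := exists_ofPOut (C := C) (C' := C') (X := A)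
  -- `w` with values in `POut κ (s ∘ γ)`
  obtain ⟨w', hw'⟩ : ∃ w' : B ⊗[C] C' →+* POut (algebraMap C C') (G.s.comp (algebraMap C A)),
      ∀ x c, w' (x ⊗ₜ c) = POut.inr _ _ x * POut.inl _ _ c := by
    rw [← hB']
    exact ⟨w, hw⟩
  have e1 : ∀ z, G.bcS (algebraMap C A) (algebraMap C C') (u z) = w' (sT z) := by
    intro z
    induction z using TensorProduct.induction_on with
    | zero => simp
    | tmul a c => rw [hu, hs, hw', map_mul, RGrpd.bcS_inr, RGrpd.bcS_inl]
    | add z z' hz hz' => rw [map_add, map_add, hz, hz', map_add, map_add]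
  have e2 : ∀ z, G.bcT (algebraMap C A) H.cond (algebraMap C C') (u z) = w' (tT z) := by
    intro z
    induction z using TensorProduct.induction_on with
    | zero => simp
    | tmul a c => rw [hu, ht, hw', map_mul, RGrpd.bcT_inr, RGrpd.bcT_inl]
    | add z z' hz hz' => rw [map_add, map_add, hz, hz', map_add, map_add]
  obtain ⟨N, P, hN, hP⟩ := InvBC.exists_pow (algebraMap C C') H D (u f) (by rw [e1, e2, hf])
  refine ⟨N, P, hN, ?_⟩
  have h3 := congrArg (Polynomial.map v) hP
  rw [Polynomial.map_map, Polynomial.map_pow, Polynomial.map_sub, Polynomial.map_X,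
    Polynomial.map_C] at h3
  have h4 : ∀ z, v (u z) = z := by
    intro z
    induction z using TensorProduct.induction_on with
    | zero => simp
    | tmul a c =>
      rw [hu, map_mul, hv1, hv2, Algebra.TensorProduct.tmul_mul_tmul, mul_one, one_mul]
    | add z z' hz hz' => rw [map_add, map_add, hz, hz']
  rw [h4] at h3
  rw [← h3]
  congr 1
  ext c
  exact (hv2 c).symm

end

end K392.InvBCFin
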