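import Groth.Agent.Grpsch.RPoints
import Mathlib.LinearAlgebra.Matrix.Charpoly.Coeff
import Mathlib.RingTheory.Polynomial.Tower

/-!
# The rank polynomial of a finite locally free ring map

For a dual basis `D` of `g : A → B` the polynomial `rp D = Σ_r e_r X^r`, `e_r` the idempotent of the
locus of rank `r`, satisfies `D.nm (g a) = (rp D).eval a`.
-/

set_option autoImplicit false
universe u

open Polynomial

namespace K392.RankPoly

open Groth.Agent.Grpsch.AffGrpd

variable {A T B : Type u} [CommRing A] [CommRing T] [CommRing B] {g : A →+* B} {n : ℕ}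

/-- The rank polynomial `Σ_r e_r X^r`. -/
noncomputable def rp (D : DB g n) : A[X] := (D.mat 1).charpolyRev.comp (1 - X)

lemma eval₂_charpolyRev (M : Matrix (Fin n) (Fin n) A) (ι : A →+* T) (x : T) :
    M.charpolyRev.eval₂ ι x = (1 - x • M.map ι).det := by
  rw [Matrix.charpolyRev, ← coe_eval₂RingHom, RingHom.map_det]
  congr 1
  ext i j
  simp [Matrix.one_apply, apply_ite]
  exact mul_comm _ _

lemma eval₂_rp (D : DB g n) (ι : A →+* T) (x : T) :
    (rp D).eval₂ ι x = (1 - (1 - x) • (D.mat 1).map ι).det := by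
  rw [rp, eval₂_comp, ← eval₂_charpolyRev]
  simp

lemma mat_smul (D : DB g n) (a : A) (x : B) : D.mat (g a * x) = a • D.mat x := by
  ext i j
  rw [DB.mat, Matrix.smul_apply, DB.mat, mul_assoc, D.l_mul, smul_eq_mul]

lemma nm_g (D : DB g n) (a : A) : D.nm (g a) = (rp D).eval a := by
  rw [← eval₂_id, eval₂_rp, DB.nm]
  congr 1
  have : g a - 1 = g (a - 1) * 1 := by simp
  rw [this, mat_smul]
  ext i j
  simp
  ring

lemma mat_one_idem (D : DB g n) : D.mat 1 * D.mat 1 = D.mat 1 := by
  rw [D.mat_mul, mul_one]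

lemma eval₂_rp_mul (D : DB g n) (ι : A →+* T) (x y : T) :
    (rp D).eval₂ ι x * (rp D).eval₂ ι y = (rp D).eval₂ ι (x * y) := by
  rw [eval₂_rp, eval₂_rp, eval₂_rp, ← Matrix.det_mul]
  have hxy : 1 - x * y = (1 - x) + (1 - y) - (1 - x) * (1 - y) := by ring
  rw [hxy]
  congr 1
  have h := congrArg (fun M => ι.mapMatrix M) (mat_one_idem D)
  simp only [map_mul, RingHom.mapMatrix_apply] at h
  set E := (D.mat 1).map ι
  have h1 : ((1 - x) • E) * ((1 - y) • E) = ((1 - x) * (1 - y)) • E := by
    rw [Matrix.smul_mul, Matrix.mul_smul, smul_smul, h]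
  generalize (1 - x) = u at h1 ⊢
  generalize (1 - y) = v at h1 ⊢
  calc (1 - u • E) * (1 - v • E)
      = 1 - u • E - v • E + (u • E) * (v • E) := by
        rw [sub_mul, one_mul, mul_sub, mul_one]; abel
    _ = 1 - (u + v - u * v) • E := by
      rw [h1, sub_smul, add_smul]
      abel

lemma rp_mul_C_coeff (D : DB g n) (s : ℕ) :
    rp D * C ((rp D).coeff s) = monomial s ((rp D).coeff s) := by
  have h := eval₂_rp_mul D ((C : A[X] →+* A[X][X]).comp C) (C X) X
  have e1 : (rp D).eval₂ ((C : A[X] →+* A[X][X]).comp C) (C X) = C (rp D) := by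
    rw [← hom_eval₂, eval₂_C_X]
  have e2 : (rp D).eval₂ ((C : A[X] →+* A[X][X]).comp C) X = (rp D).map C := by
    rw [← eval₂_map, eval₂_C_X]
  rw [e1, e2] at h
  have h2 := congrArg (fun p : A[X][X] => p.coeff s) h
  simp only [coeff_C_mul, coeff_map] at h2
  rw [h2, eval₂_eq_sum, Polynomial.sum, finsetSum_coeff]
  have : ∀ k ∈ (rp D).support, (((C : A[X] →+* A[X][X]).comp C) ((rp D).coeff k) *
      (C X * X) ^ k).coeff s = if k = s then monomial s ((rp D).coeff s) else 0 := by
    intro k _
    rw [mul_pow, RingHom.comp_apply, ← mul_assoc, ← C_pow, ← C_mul, coeff_C_mul, coeff_X_pow]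
    split_ifs with h1 h2 h2
    · subst h1
      rw [mul_one, C_mul_X_pow_eq_monomial]
    · exact absurd h1.symm h2
    · exact absurd h2.symm h1
    · rw [mul_zero]
  rw [Finset.sum_congr rfl this, Finset.sum_ite_eq']
  split_ifs with hs
  · rfl
  · rw [notMem_support_iff.mp hs, monomial_zero_right]

lemma coeff_mul_coeff (D : DB g n) (r s : ℕ) :
    (rp D).coeff r * (rp D).coeff s = if r = s then (rp D).coeff s else 0 := by
  have h := congrArg (fun p : A[X] => p.coeff r) (rp_mul_C_coeff D s)
  simp only [coeff_mul_C, coeff_monomial] at h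
  rw [h]
  by_cases hrs : r = s
  · simp [hrs]
  · rw [if_neg hrs, if_neg (fun h => hrs h.symm)]

lemma sum_coeff (D : DB g n) : (rp D).sum (fun _ c => c) = 1 := by
  have h : (rp D).eval 1 = 1 := by
    rw [← nm_g, map_one, DB.nm_one]
  rw [eval_eq_sum] at h
  simpa using h

/-- Cofactor argument: `e_0` kills `B`. -/
lemma coeff_zero_smul (D : DB g n) (y : B) : g ((rp D).coeff 0) * y = 0 := by
  have h0 : (rp D).coeff 0 = (1 - D.mat 1).det := by
    rw [coeff_zero_eq_eval_zero, ← eval₂_id, eval₂_rp]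
    congr 1
    ext i j
    simp
  have h1 : (1 - D.mat 1).mulVec (fun i => D.l i y) = 0 := by
    rw [Matrix.sub_mulVec, Matrix.one_mulVec, D.mat_mulVec, one_mul, sub_self]
  have h2 : ∀ i, (rp D).coeff 0 * D.l i y = 0 := by
    intro i
    have h3 := congrArg (fun v => ((1 - D.mat 1).adjugate).mulVec v) h1
    simp only [Matrix.mulVec_mulVec, Matrix.adjugate_mul, Matrix.mulVec_zero,
      Matrix.smul_mulVec, Matrix.one_mulVec] at h3
    have h4 := congrFun h3 i
    rw [h0]
    simpa using h4
  rw [← D.sum_eq (g ((rp D).coeff 0) * y)]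
  refine Finset.sum_eq_zero fun i _ => ?_
  rw [D.l_mul, h2, map_zero, zero_mul]

lemma coeff_zero_of_injective (D : DB g n) (hg : Function.Injective g) : (rp D).coeff 0 = 0 := by
  apply hg
  rw [map_zero, ← mul_one (g _), coeff_zero_smul]

/-- The rank polynomial is determined by the characteristic polynomial of `1`. -/
lemma map_rp (D : DB g n) (f : A →+* T) :
    (rp D).map f = (((D.cp 1).map f).reverse).comp (1 - X) := by
  have h1 : ((D.cp 1).map f).reverse = ((D.mat 1).charpolyRev).map f := by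
    rw [DB.cp, ← Matrix.charpoly_map, Matrix.reverse_charpoly, Matrix.charpolyRev,
      Matrix.charpolyRev, ← coe_mapRingHom, RingHom.map_det]
    congr 1
    ext i j
    simp [Matrix.one_apply, apply_ite]
  rw [h1, rp, map_comp]
  simp

/-- The idempotents `e_r` are invariant. -/
theorem coeff_rp_invariant (G : RGrpd A B) (D : DB G.s n) (k : ℕ) :
    G.s ((rp D).coeff k) = G.t ((rp D).coeff k) := by
  have h : (rp D).map G.s = (rp D).map G.t := by
    have h1 := G.cp_invariant D 1
    rw [map_one] at h1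
    rw [map_rp, map_rp, h1]
  have h2 := congrArg (fun p : B[X] => p.coeff k) h
  simpa only [coeff_map] using h2

end K392.RankPoly
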