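import Groth.Agent.Grpd.K392.HomImage
import Groth.Agent.GrpQ.H766.RelGrpd

/-!
# The relation defined by a groupoid over a field

* `Data pU`: a monomorphism `z : Z ⟶ U ×_S U` which is an equivalence relation; `Data.grpd`.
* `exists_data`: the scheme-theoretic image of `j`.
* `exists_data_reduced`: the reduced closure of the image of `j`.
-/

set_option autoImplicit false
universe u

open CategoryTheory CategoryTheory.Limits AlgebraicGeometry

namespace K392.RelImage

open Groth.Agent.Grpsch.Points Groth.Agent.Grpsch.FieldGrpd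

/-- Data for an equivalence relation given by a monomorphism. -/
structure Data {S : Scheme.{u}} {U : Scheme.{u}} (pU : U ⟶ S) where
  Z : Scheme.{u}
  z : Z ⟶ pullback pU pU
  mono : Mono z
  e : U ⟶ Z
  e_fst : e ≫ z ≫ pullback.fst pU pU = 𝟙 U
  e_snd : e ≫ z ≫ pullback.snd pU pU = 𝟙 U
  i : Z ⟶ Z
  i_fst : i ≫ z ≫ pullback.fst pU pU = z ≫ pullback.snd pU pU
  i_snd : i ≫ z ≫ pullback.snd pU pU = z ≫ pullback.fst pU pU
  c : pullback (z ≫ pullback.snd pU pU) (z ≫ pullback.fst pU pU) ⟶ Z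
  c_fst : c ≫ z ≫ pullback.fst pU pU =
    pullback.fst (z ≫ pullback.snd pU pU) (z ≫ pullback.fst pU pU) ≫ z ≫ pullback.fst pU pU
  c_snd : c ≫ z ≫ pullback.snd pU pU =
    pullback.snd (z ≫ pullback.snd pU pU) (z ≫ pullback.fst pU pU) ≫ z ≫ pullback.snd pU pU

section
variable {S : Scheme.{u}} {U : Scheme.{u}} {pU : U ⟶ S} (D : Data pU)

instance : Mono D.z := D.mono

lemma Data.hom_ext {T : Scheme.{u}} {a b : T ⟶ D.Z}
    (h1 : a ≫ D.z ≫ pullback.fst pU pU = b ≫ D.z ≫ pullback.fst pU pU)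
    (h2 : a ≫ D.z ≫ pullback.snd pU pU = b ≫ D.z ≫ pullback.snd pU pU) : a = b := by
  rw [← cancel_mono D.z]
  apply pullback.hom_ext
  · simpa using h1
  · simpa using h2

/-- The groupoid of an equivalence relation. -/
noncomputable def Data.grpd : Grpd.GroupoidScheme S :=
  Groth.Agent.GrpQ.H766.RelGrpd.ofMono pU (D.z ≫ pullback.fst pU pU) (D.z ≫ pullback.snd pU pU)
    (fun _ _ h1 h2 => D.hom_ext h1 h2) (by rw [Category.assoc, Category.assoc, pullback.condition])
    D.e D.e_snd D.e_fst D.i D.i_snd D.i_fst D.c D.c_snd D.c_fst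

lemma Data.grpd_j : D.grpd.j = D.z := by
  apply pullback.hom_ext
  · exact pullback.lift_fst _ _ _
  · exact pullback.lift_snd _ _ _

end

variable {S : Scheme.{u}} (G : Grpd.GroupoidScheme S)

/-- The morphism from a groupoid to the groupoid of an equivalence relation containing the image of `j`. -/
noncomputable def Data.homOf (D : Data G.pU) (p : G.R ⟶ D.Z) (hp : p ≫ D.z = G.j) :
    Grpd.GroupoidScheme.Hom G D.grpd where
  fU := 𝟙 _
  fR := p
  fU_over := Category.id_comp _
  comm_s := by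
    change p ≫ D.z ≫ pullback.snd _ _ = _
    rw [← Category.assoc, hp, j_snd]
    exact (Category.comp_id _).symm
  comm_t := by
    change p ≫ D.z ≫ pullback.fst _ _ = _
    rw [← Category.assoc, hp, j_fst]
    exact (Category.comp_id _).symm
  comm_c {T} α β h := by
    have hs : ∀ m : T ⟶ G.R, (m ≫ p) ≫ D.z ≫ pullback.snd _ _ = m ≫ G.s := fun m => by
      rw [Category.assoc, ← Category.assoc p, hp, j_snd]
    have ht : ∀ m : T ⟶ G.R, (m ≫ p) ≫ D.z ≫ pullback.fst _ _ = m ≫ G.t := fun m => by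
      rw [Category.assoc, ← Category.assoc p, hp, j_fst]
    apply D.hom_ext
    · exact (ht _).trans ((G.comp_t α β h).trans ((ht α).symm.trans
        (D.grpd.comp_t (α ≫ p) (β ≫ p) _).symm))
    · exact (hs _).trans ((G.comp_s α β h).trans ((hs β).symm.trans
        (D.grpd.comp_s (α ≫ p) (β ≫ p) _).symm))

section field

variable {k : Type u} [Field k] (eU : G.U ≅ Spec (CommRingCat.of k))

include eU in
theorem isAffine_pullback : IsAffine (pullback G.pU G.pU) := by
  have hsub : Subsingleton G.U := eU.hom.homeomorph.injective.subsingleton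
  have haff : IsAffine G.U := .of_isIso eU.hom
  let p : Spec (CommRingCat.of k) := IsLocalRing.closedPoint k
  obtain ⟨_, ⟨V : S.Opens, hV, rfl⟩, hpV, -⟩ :=
    S.isBasis_affineOpens.exists_subset_of_mem_open (Set.mem_univ (G.pU (eU.inv p))) isOpen_univ
  have hr : Set.range G.pU ⊆ Set.range V.ι := by
    rintro _ ⟨q, rfl⟩
    rw [Subsingleton.elim q (eU.inv p)]
    simpa using hpV
  let l := IsOpenImmersion.lift V.ι G.pU hr
  have hl : l ≫ V.ι = G.pU := IsOpenImmersion.lift_fac _ _ _
  have : IsAffine V.toScheme := hV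
  rw [← hl]
  have h : IsPullback (pullback.fst l l) (pullback.snd l l) (l ≫ V.ι) (l ≫ V.ι) :=
    ⟨⟨pullback.condition_assoc _⟩, ⟨pullbackIsPullbackOfCompMono l l V.ι⟩⟩
  exact .of_isIso h.isoPullback.inv

/-- the composition on `U ×_S U`. -/
noncomputable def c₀ {S U : Scheme.{u}} (pU : U ⟶ S) :
    pullback (pullback.snd pU pU) (pullback.fst pU pU) ⟶ pullback pU pU :=
  pullback.lift (pullback.fst _ _ ≫ pullback.fst pU pU) (pullback.snd _ _ ≫ pullback.snd pU pU) (by
    rw [Category.assoc, Category.assoc, ← pullback.condition (f := pU) (g := pU),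
      ← pullback.condition_assoc, pullback.condition (f := pU) (g := pU)])

/-- the flip of `U ×_S U`. -/
noncomputable def i₀ {S U : Scheme.{u}} (pU : U ⟶ S) : pullback pU pU ⟶ pullback pU pU :=
  pullback.lift (pullback.snd pU pU) (pullback.fst pU pU) pullback.condition.symm

lemma j_i₀ : G.j ≫ i₀ G.pU = G.i ≫ G.j := by
  apply pullback.hom_ext
  · simp [i₀, pullback.lift_fst]
  · simp [i₀, pullback.lift_snd]

lemma map_c₀ (h1 : G.s ≫ 𝟙 _ = G.j ≫ pullback.snd G.pU G.pU)
    (h2 : G.t ≫ 𝟙 _ = G.j ≫ pullback.fst G.pU G.pU) :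
    pullback.map G.s G.t (pullback.snd G.pU G.pU) (pullback.fst G.pU G.pU) G.j G.j (𝟙 _) h1 h2 ≫
      c₀ G.pU = G.c ≫ G.j := by
  apply pullback.hom_ext
  · rw [Category.assoc, c₀, pullback.lift_fst, pullback.lift_fst_assoc, Category.assoc, j_fst,
      Category.assoc, j_fst, c_t]
  · rw [Category.assoc, c₀, pullback.lift_snd, pullback.lift_snd_assoc, Category.assoc, j_snd,
      Category.assoc, j_snd, c_s]

/-- `Data` from the factorizations of diagonal, flip and composition. -/
noncomputable def mkData {S U : Scheme.{u}} {pU : U ⟶ S} {Z : Scheme.{u}} (z : Z ⟶ pullback pU pU)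
    [Mono z] (e : U ⟶ Z) (he : e ≫ z = pullback.lift (𝟙 U) (𝟙 U) rfl) (i : Z ⟶ Z)
    (hi : i ≫ z = z ≫ i₀ pU)
    (c : pullback (z ≫ pullback.snd pU pU) (z ≫ pullback.fst pU pU) ⟶ Z)
    (hc : c ≫ z = pullback.map (z ≫ pullback.snd pU pU) (z ≫ pullback.fst pU pU) _ _ z z (𝟙 U)
      (Category.comp_id _) (Category.comp_id _) ≫ c₀ pU) : Data pU where
  Z := Z
  z := z
  mono := inferInstance
  e := e
  e_fst := by rw [← Category.assoc, he, pullback.lift_fst]
  e_snd := by rw [← Category.assoc, he, pullback.lift_snd]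
  i := i
  i_fst := by rw [← Category.assoc, hi, Category.assoc, i₀, pullback.lift_fst]
  i_snd := by rw [← Category.assoc, hi, Category.assoc, i₀, pullback.lift_snd]
  c := c
  c_fst := by
    rw [← Category.assoc, hc, Category.assoc, c₀, pullback.lift_fst, pullback.lift_fst_assoc,
      Category.assoc]
  c_snd := by
    rw [← Category.assoc, hc, Category.assoc, c₀, pullback.lift_snd, pullback.lift_snd_assoc,
      Category.assoc]

include eU in
theorem exists_data [CompactSpace G.R] :
    ∃ (D : Data G.pU) (p : G.R ⟶ D.Z), p ≫ D.z = G.j ∧ IsClosedImmersion D.z ∧ D.z.ker = G.j.ker := by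
  have := isAffine_pullback G eU
  have hqc : QuasiCompact G.j := inferInstance
  let z := G.j.imageι
  let p := G.j.toImage
  have hpz : p ≫ z = G.j := G.j.toImage_imageι
  have hp : IsSchemeTheoreticallyDominant p := K263.ToImage.isSchemeTheoreticallyDominant_toImage _
  have hz : IsClosedImmersion z := inferInstance
  have he : (G.e ≫ p) ≫ z = pullback.lift (𝟙 G.U) (𝟙 G.U) rfl := by
    rw [Category.assoc, hpz]
    apply pullback.hom_ext
    · rw [Category.assoc, j_fst, G.e_t, pullback.lift_fst]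
    · rw [Category.assoc, j_snd, G.e_s, pullback.lift_snd]
  obtain ⟨i, hi⟩ := HomImage.exists_lift p z (z ≫ i₀ G.pU) (G.i ≫ p) (by
    rw [← Category.assoc, hpz, Category.assoc, hpz, j_i₀])
  have hs : p ≫ z ≫ pullback.snd G.pU G.pU = G.s := by rw [← Category.assoc, hpz, j_snd]
  have ht : p ≫ z ≫ pullback.fst G.pU G.pU = G.t := by rw [← Category.assoc, hpz, j_fst]
  have hst : pullback.fst (p ≫ z ≫ pullback.snd G.pU G.pU) (p ≫ z ≫ pullback.fst G.pU G.pU) ≫ G.s =
      pullback.snd (p ≫ z ≫ pullback.snd G.pU G.pU) (p ≫ z ≫ pullback.fst G.pU G.pU) ≫ G.t :=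
    (congrArg (fun g => _ ≫ g) hs.symm).trans (pullback.condition.trans (congrArg (fun g => _ ≫ g) ht))
  have hm := HomImage.map_dominant eU p (z ≫ pullback.snd G.pU G.pU) (z ≫ pullback.fst G.pU G.pU)
  obtain ⟨c, hc⟩ := HomImage.exists_lift
    (pullback.map (p ≫ z ≫ pullback.snd G.pU G.pU) (p ≫ z ≫ pullback.fst G.pU G.pU)
      (z ≫ pullback.snd G.pU G.pU) (z ≫ pullback.fst G.pU G.pU) p p (𝟙 _) _ _) z
    (pullback.map (z ≫ pullback.snd G.pU G.pU) (z ≫ pullback.fst G.pU G.pU) _ _ z z (𝟙 G.U)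
      (Category.comp_id _) (Category.comp_id _) ≫ c₀ G.pU) (mul G _ _ hst ≫ p) (by
    have key : (mul G _ _ hst ≫ p) ≫ z = mul G _ _ hst ≫ G.j :=
      (Category.assoc _ _ _).trans (congrArg (fun g => _ ≫ g) hpz)
    rw [key]
    apply pullback.hom_ext
    · refine Eq.trans ?_ ((Category.assoc _ _ _).trans ((congrArg (fun g => _ ≫ g) (j_fst G)).trans
        (mul_t G _ _ hst))).symm
      simp only [Category.assoc, c₀, pullback.lift_fst, pullback.lift_fst_assoc]
      exact congrArg (fun g => _ ≫ g) ht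
    · refine Eq.trans ?_ ((Category.assoc _ _ _).trans ((congrArg (fun g => _ ≫ g) (j_snd G)).trans
        (mul_s G _ _ hst))).symm
      simp only [Category.assoc, c₀, pullback.lift_snd, pullback.lift_snd_assoc]
      exact congrArg (fun g => _ ≫ g) hs)
  exact ⟨mkData z (G.e ≫ p) he i hi c hc, p, hpz, hz, Scheme.IdealSheafData.ker_subschemeι _⟩

include eU in
theorem exists_data_reduced [PerfectField k] :
    ∃ D : Data G.pU, IsClosedImmersion D.z ∧ IsReduced D.Z ∧
      Set.range D.z = closure (Set.range G.j) := by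
  let I := Scheme.IdealSheafData.vanishingIdeal ⟨closure (Set.range G.j), isClosed_closure⟩
  let z := I.subschemeι
  have hred : IsReduced I.subscheme := Groth.Agent.Ega1.ReducedSub.isReduced_subscheme_vanishingIdeal _
  have hz : IsClosedImmersion z := inferInstance
  have hrz : Set.range z = closure (Set.range G.j) := by
    simp [z, I]
  have hne : Nonempty G.U := ⟨eU.inv (IsLocalRing.closedPoint k)⟩
  have hU : IsIntegral G.U := isIntegral_of_isOpenImmersion eU.hom
  have hU' : Subsingleton G.U := eU.hom.homeomorph.injective.subsingleton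
  obtain ⟨e, he⟩ := Groth.Agent.Ega1.ReducedSub.exists_factor_of_range_subset
    (pullback.lift (f := G.pU) (g := G.pU) (𝟙 G.U) (𝟙 G.U) rfl) z (by
    rw [hrz]
    rintro _ ⟨x, rfl⟩
    refine subset_closure ⟨G.e x, ?_⟩
    have : G.e ≫ G.j = pullback.lift (𝟙 G.U) (𝟙 G.U) rfl := by
      apply pullback.hom_ext
      · rw [Category.assoc, j_fst, G.e_t, pullback.lift_fst]
      · rw [Category.assoc, j_snd, G.e_s, pullback.lift_snd]
    rw [← Scheme.Hom.comp_apply, this])
  obtain ⟨i, hi⟩ := Groth.Agent.Ega1.ReducedSub.exists_factor_of_range_subset (z ≫ i₀ G.pU) z (by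
    rw [hrz]
    rintro _ ⟨x, rfl⟩
    rw [Scheme.Hom.comp_apply]
    refine map_mem_closure (i₀ G.pU).continuous (hrz.le ⟨x, rfl⟩) ?_
    rintro _ ⟨r, rfl⟩
    refine ⟨G.i r, ?_⟩
    rw [← Scheme.Hom.comp_apply, ← j_i₀, Scheme.Hom.comp_apply])
  have h1 : IsReduced (pullback (z ≫ pullback.snd G.pU G.pU) (z ≫ pullback.fst G.pU G.pU)) := by
    have h2 : GeometricallyReduced ((z ≫ pullback.snd G.pU G.pU) ≫ eU.hom) :=
      Groth.Agent.Sga3C.GeomRedPerf.geometricallyReduced_of_isReduced _
    have h3 := Groth.Agent.Sga3C.GeomRed.isReduced_pullback ((z ≫ pullback.snd G.pU G.pU) ≫ eU.hom)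
      ((z ≫ pullback.fst G.pU G.pU) ≫ eU.hom)
    exact isReduced_of_isOpenImmersion (pullback.map (z ≫ pullback.snd G.pU G.pU)
      (z ≫ pullback.fst G.pU G.pU) ((z ≫ pullback.snd G.pU G.pU) ≫ eU.hom)
      ((z ≫ pullback.fst G.pU G.pU) ≫ eU.hom) (𝟙 _) (𝟙 _) eU.hom (by simp) (by simp))
  obtain ⟨c, hc⟩ := Groth.Agent.Ega1.ReducedSub.exists_factor_of_range_subset
    (pullback.map (z ≫ pullback.snd G.pU G.pU) (z ≫ pullback.fst G.pU G.pU) _ _ z z (𝟙 G.U)
      (Category.comp_id _) (Category.comp_id _) ≫ c₀ G.pU) z (by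
    rw [hrz]
    rintro _ ⟨x, rfl⟩
    rw [Scheme.Hom.comp_apply]
    set q := pullback.map (z ≫ pullback.snd G.pU G.pU) (z ≫ pullback.fst G.pU G.pU) _ _ z z (𝟙 G.U)
      (Category.comp_id _) (Category.comp_id _) x with hq
    have hq1 : pullback.fst (pullback.snd G.pU G.pU) (pullback.fst G.pU G.pU) q ∈
        closure (Set.range G.j) := by
      rw [hq, ← Scheme.Hom.comp_apply, pullback.lift_fst, Scheme.Hom.comp_apply]
      exact hrz.le ⟨_, rfl⟩
    have hq2 : pullback.snd (pullback.snd G.pU G.pU) (pullback.fst G.pU G.pU) q ∈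
        closure (Set.range G.j) := by
      rw [hq, ← Scheme.Hom.comp_apply, pullback.lift_snd, Scheme.Hom.comp_apply]
      exact hrz.le ⟨_, rfl⟩
    refine map_mem_closure (c₀ G.pU).continuous
      (mem_closure_of_isPullback (IsPullback.of_hasPullback _ _) hq1 hq2) ?_
    intro y hy
    have hy' : y ∈ Set.range (pullback.map G.s G.t (pullback.snd G.pU G.pU) (pullback.fst G.pU G.pU)
        G.j G.j (𝟙 _) (by simp) (by simp)) := by
      rw [Scheme.Pullback.range_map]
      exact hy
    obtain ⟨w, rfl⟩ := hy'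
    refine ⟨G.c w, ?_⟩
    rw [← Scheme.Hom.comp_apply, ← map_c₀, Scheme.Hom.comp_apply])
  exact ⟨mkData z e he i hi c hc, hz, hred, hrz⟩

end field

end K392.RelImage
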