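import Groth.Agent.Grpsch.Restrict
import Groth.Agent.AlgSp.K609.AlgClosedAut

/-!
# A point of a restriction inducing isomorphisms on residue fields
-/

set_option autoImplicit false
universe u

open CategoryTheory CategoryTheory.Limits AlgebraicGeometry

namespace K392.ResPoint

theorem isIso_residueFieldMap {K X Y : Scheme.{u}} (x : K ⟶ X) (f : X ⟶ Y) (p : K)
    [h : IsIso (x ≫ f)] : IsIso (f.residueFieldMap (x p)) := by
  have h1 : IsIso (f.residueFieldMap (x p) ≫ x.residueFieldMap p) := by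
    rw [← Scheme.residueFieldMap_comp]
    have h0 : IsOpenImmersion (x ≫ f) := inferInstance
    have h1 : IsIso (Scheme.Hom.residueFieldMap (X := K) (Y := Y) (x ≫ f) p) := inferInstance
    exact h1
  have h2 : IsIso (x.residueFieldMap p) := by
    rw [ConcreteCategory.isIso_iff_bijective]
    refine ⟨(x.residueFieldMap p).hom.injective, ?_⟩
    have h3 := ((ConcreteCategory.isIso_iff_bijective _).mp h1).2
    intro z
    obtain ⟨y, hy⟩ := h3 z
    exact ⟨_, hy⟩
  exact IsIso.of_isIso_comp_right _ (x.residueFieldMap p)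

open Groth.Agent.Grpsch.Restrict

variable {S : Scheme.{u}} (G : Grpd.GroupoidScheme S)

theorem exists_point {k : Type u} [Field k] (eU : G.U ≅ Spec (CommRingCat.of k)) (r : G.R) :
    ∃ (k' : Type u) (_ : Field k') (_ : IsAlgClosed k') (_ : Algebra k k'),
      ∃ r' : ↑(arrows G (Spec.map (CommRingCat.ofHom (algebraMap k k')) ≫ eU.inv)),
        toR G _ r' = r ∧ IsIso ((src G _).residueFieldMap r') ∧ IsIso ((tgt G _).residueFieldMap r') := by
  obtain ⟨φs, hs⟩ := Spec.map_surjective (G.R.fromSpecResidueField r ≫ G.s ≫ eU.hom)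
  obtain ⟨φt, ht⟩ := Spec.map_surjective (G.R.fromSpecResidueField r ≫ G.t ≫ eU.hom)
  obtain ⟨Ω, _, _, _, hΩ⟩ := K609.AlgClosedAut.exists_large_algClosed (G.R.residueField r)
  let ι : G.R.residueField r ⟶ CommRingCat.of Ω := CommRingCat.ofHom (algebraMap (G.R.residueField r) Ω)
  have hk : max (Cardinal.mk k) Cardinal.aleph0 < Cardinal.mk Ω := by
    refine lt_of_le_of_lt (max_le_max ?_ le_rfl) hΩ
    exact Cardinal.mk_le_of_injective φs.hom.injective
  obtain ⟨σ, hσ⟩ := K609.AlgClosedAut.exists_ringEquiv hk (φs ≫ ι).hom (φt ≫ ι).hom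
  let := (φs ≫ ι).hom.toAlgebra
  refine ⟨Ω, inferInstance, inferInstance, inferInstance, ?_⟩
  let g := Spec.map (CommRingCat.ofHom (algebraMap k Ω)) ≫ eU.inv
  let σ' : CommRingCat.of Ω ≅ CommRingCat.of Ω := σ.toCommRingCatIso
  let ρ : Spec (CommRingCat.of Ω) ⟶ G.R := Spec.map ι ≫ G.R.fromSpecResidueField r
  have hb : ρ ≫ G.s = 𝟙 _ ≫ g := by
    rw [← cancel_mono eU.hom]
    simp only [ρ, g, Category.assoc, Iso.inv_hom_id, Category.comp_id, Category.id_comp]
    rw [← hs, ← Spec.map_comp]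
    rfl
  have ha : ρ ≫ G.t = Spec.map σ'.hom ≫ g := by
    rw [← cancel_mono eU.hom]
    simp only [ρ, g, Category.assoc, Iso.inv_hom_id, Category.comp_id]
    rw [← ht, ← Spec.map_comp, ← Spec.map_comp]
    congr 1
    ext1
    exact hσ.symm
  let x := mk G g (Spec.map σ'.hom) ρ (𝟙 _) ha hb
  let p : Spec (CommRingCat.of Ω) := IsLocalRing.closedPoint Ω
  refine ⟨x p, ?_, ?_, ?_⟩
  · have h1 : (x ≫ toR G g) p = r := by
      rw [mk_toR, Scheme.Hom.comp_apply]
      exact Scheme.fromSpecResidueField_apply _ _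
    exact h1
  · have : IsIso (x ≫ src G g) := by rw [mk_src]; infer_instance
    exact isIso_residueFieldMap _ _ _
  · have : IsIso (x ≫ tgt G g) := by rw [mk_tgt]; infer_instance
    exact isIso_residueFieldMap _ _ _

end K392.ResPoint
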