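import Groth.Agent.Grpsch.FieldUni
import Groth.Agent.Grpsch.FieldDim
import Groth.Agent.Smoothlim.SmoothLocusBC
import Groth.Agent.Localalg.CartierSch

/-!
# Smoothness of groupoids over a field

* `smooth_of_mem`: homogeneity, one smooth point is enough.
* `exists_derivation`: invariant derivations of groupoids on a field.
* `isReduced_stalk_e`: in characteristic zero the local ring of the identity is reduced.
-/

set_option autoImplicit false
universe u

open CategoryTheory CategoryTheory.Limits AlgebraicGeometry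

namespace K392.SmoothField

open Groth.Agent.Grpsch.Points Groth.Agent.Grpsch.FieldUni Groth.Agent.Grpsch.FieldDim

variable {S : Scheme.{u}} (G : Grpd.GroupoidScheme S)

section homog

variable {k : Type u} [Field k] (eU : G.U ≅ Spec (CommRingCat.of k)) [LocallyOfFinitePresentation G.t]

include eU in
theorem mem_smoothLocus_iff (r : G.R) (u : G.U) :
    r ∈ G.t.smoothLocus ↔ G.e u ∈ G.t.smoothLocus := by
  have hsub : Subsingleton G.U := eU.hom.homeomorph.injective.subsingleton
  let x := G.R.fromSpecResidueField r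
  let p₀ : Spec (G.R.residueField r) := IsLocalRing.closedPoint (G.R.residueField r)
  let ε : Spec (G.R.residueField r) ⟶ pullback (x ≫ G.s) G.t :=
    pullback.lift (𝟙 _) ((x ≫ G.s) ≫ G.e) (by simp)
  have h1 := Groth.Agent.Smoothlim.SmoothLocusBC.mem_smoothLocus_iff_of_isPullback
    (isPullback_shear G x) (ε p₀) (Or.inr (flat_to_field eU _))
  have h2 := Groth.Agent.Smoothlim.SmoothLocusBC.mem_smoothLocus_iff_of_isPullback
    (IsPullback.of_hasPullback (x ≫ G.s) G.t).flip (ε p₀) (Or.inr (flat_to_field eU _))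
  have h3 : shear G x (ε p₀) = r := by
    have h4 : ε ≫ shear G x = x := by
      rw [shear, comp_mul]
      refine Eq.trans (mul_congr G _ ?_ ?_) (mul_e G x (x ≫ G.s) (by simp))
      · rw [pullback.lift_fst_assoc, Category.id_comp]
      · rw [pullback.lift_snd]
    have h5 : shear G x (ε p₀) = (ε ≫ shear G x) p₀ := rfl
    rw [h5, h4]
    exact Scheme.fromSpecResidueField_apply _ _
  have h4 : pullback.snd (x ≫ G.s) G.t (ε p₀) = G.e u := by
    have h5 : pullback.snd (x ≫ G.s) G.t (ε p₀) = (ε ≫ pullback.snd (x ≫ G.s) G.t) p₀ := rfl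
    rw [h5, pullback.lift_snd, Scheme.Hom.comp_apply]
    exact congrArg _ (Subsingleton.elim _ _)
  rw [h3] at h1
  rw [h4] at h2
  exact h1.symm.trans h2

include eU in
theorem smooth_of_mem (r : G.R) (hr : r ∈ G.t.smoothLocus) : Smooth G.s ∧ Smooth G.t := by
  have h1 : Smooth G.t := by
    rw [← Scheme.Hom.smoothLocus_eq_top_iff, eq_top_iff]
    intro r' _
    rw [mem_smoothLocus_iff G eU r' (G.t r), ← mem_smoothLocus_iff G eU r]
    exact hr
  have h2 : Smooth G.s := by
    rw [← i_t G]
    infer_instance
  exact ⟨h2, h1⟩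

include eU in
/-- If some nonempty open subscheme is reduced and the field is perfect, then `s, t` are smooth. -/
theorem smooth_of_isReduced [PerfectField k] {W : Scheme.{u}} (h : W ⟶ G.R) [IsOpenImmersion h]
    [Nonempty W] [IsReduced W] : Smooth G.s ∧ Smooth G.t := by
  have h1 := (h ≫ G.t ≫ eU.hom).dense_smoothLocus_of_perfectField
  obtain ⟨v, hv⟩ := h1.nonempty
  have h2 : h v ∈ (G.t ≫ eU.hom).smoothLocus := by
    have := Scheme.Hom.preimage_smoothLocus_eq h (G.t ≫ eU.hom)
    rw [← Scheme.Hom.mem_preimage, this]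
    exact hv
  have h3 : h v ∈ G.t.smoothLocus := by
    rw [Scheme.Hom.mem_smoothLocus] at h2 ⊢
    rw [Scheme.Hom.stalkMap_comp] at h2
    exact (RingHom.FormallySmooth.respectsIso.cancel_left_isIso (eU.hom.stalkMap (G.t (h v)))
      (G.t.stalkMap (h v))).mp h2
  exact smooth_of_mem G eU _ h3

end homog

section der

open Groth.Agent.Localalg.CartierSch TrivSqZeroExt

variable {k : Type u} [Field k] (eU : G.U ≅ Spec (CommRingCat.of k)) {A : Type u} [CommRing A]
  (j : Spec (CommRingCat.of A) ⟶ G.R) [IsOpenImmersion j] (σ τ : k →+* A)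
  (hσ : j ≫ G.s = Spec.map (CommRingCat.ofHom σ) ≫ eU.inv)
  (hτ : j ≫ G.t = Spec.map (CommRingCat.ofHom τ) ≫ eU.inv)
  (x : A →+* k) (hx : Spec.map (CommRingCat.ofHom x) ≫ j = eU.inv ≫ G.e)

/-- the ring map on dual numbers induced by a ring map. -/
noncomputable def dmap {B C : Type u} [CommRing B] [CommRing C] (g : B →+* C) :
    DualNumber B →+* DualNumber C where
  toFun z := inl (g z.fst) + inr (g z.snd)
  map_one' := by ext <;> simp
  map_mul' a b := by ext <;> simp [mul_comm]
  map_zero' := by ext <;> simp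
  map_add' a b := by ext <;> simp

lemma dmap_fst {B C : Type u} [CommRing B] [CommRing C] (g : B →+* C) (z : DualNumber B) :
    (dmap g z).fst = g z.fst := by simp [dmap]

lemma dmap_snd {B C : Type u} [CommRing B] [CommRing C] (g : B →+* C) (z : DualNumber B) :
    (dmap g z).snd = g z.snd := by simp [dmap]

/-- the inclusion of constants -/
noncomputable abbrev inl' (B : Type u) [CommRing B] : B →+* DualNumber B := inlHom B B

/-- the projection -/
noncomputable abbrev fst' (B : Type u) [CommRing B] : DualNumber B →+* B :=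
  (fstHom B B B).toRingHom

lemma surj_fst' (B : Type u) [CommRing B] :
    Function.Surjective (Spec.map (CommRingCat.ofHom (fst' B))) := by
  suffices hs : Function.Surjective (PrimeSpectrum.comap (fst' B)) from hs
  intro y
  have h := _root_.range_comap_of_surjective _ (fst' B) (fun s => ⟨inl s, rfl⟩)
  have hy : y ∈ Set.range (PrimeSpectrum.comap (fst' B)) := by
    rw [h, PrimeSpectrum.mem_zeroLocus]
    intro z hz
    have hz' : z.fst = 0 := hz
    refine y.isPrime.mem_of_pow_mem 2 ?_
    have : z ^ 2 = 0 := by rw [pow_two]; ext <;> simp [hz']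
    rw [this]
    exact Ideal.zero_mem _
  exact hy

include hσ hτ hx in
theorem exists_derivation (l : A →+* DualNumber k) (hl : ∀ f, (l f).fst = x f)
    (hlτ : ∀ a, l (τ a) = inl a) : ∃ D : Derivation ℤ A A, ∀ f, x (D f) = (l f).snd := by
  have hxσ : Spec.map (CommRingCat.ofHom x) ≫ Spec.map (CommRingCat.ofHom σ) = 𝟙 _ := by
    rw [← cancel_mono eU.inv, Category.assoc, ← hσ, ← Category.assoc, hx, Category.assoc, G.e_s]
    simp
  let α : Spec (CommRingCat.of (DualNumber A)) ⟶ G.R := Spec.map (CommRingCat.ofHom (inl' A)) ≫ j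
  let β : Spec (CommRingCat.of (DualNumber A)) ⟶ G.R :=
    Spec.map (CommRingCat.ofHom (dmap σ)) ≫ Spec.map (CommRingCat.ofHom l) ≫ j
  have hαβ : α ≫ G.s = β ≫ G.t := by
    have e : (inl' A).comp σ = (dmap σ).comp (l.comp τ) := RingHom.ext fun a => by
      simp only [RingHom.comp_apply, hlτ]
      ext <;> simp [dmap_fst, dmap_snd]
    simp only [α, β, Category.assoc, hσ, hτ]
    simp only [← Category.assoc, ← Spec.map_comp, ← CommRingCat.ofHom_comp, e]
  let p := mul G α β hαβ
  have h3 : Spec.map (CommRingCat.ofHom (fst' A)) ≫ p = j := by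
    refine (comp_mul G _ _ _ _).trans ?_
    have e1 : Spec.map (CommRingCat.ofHom (fst' A)) ≫ α = j := by
      simp only [α, ← Category.assoc, ← Spec.map_comp, ← CommRingCat.ofHom_comp]
      have : (fst' A).comp (inl' A) = RingHom.id A := RingHom.ext fun a => by simp
      rw [this]
      simp
    have e2 : Spec.map (CommRingCat.ofHom (fst' A)) ≫ β = (j ≫ G.s) ≫ G.e := by
      simp only [β, ← Category.assoc, ← Spec.map_comp, ← CommRingCat.ofHom_comp]
      have : (fst' A).comp ((dmap σ).comp l) = σ.comp x := RingHom.ext fun f => by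
        simp [dmap_fst, hl]
      rw [this, CommRingCat.ofHom_comp, Spec.map_comp, Category.assoc, hx, hσ, Category.assoc]
    exact (mul_congr G _ e1 e2).trans (mul_e G j (j ≫ G.s) (by simp))
  have h4 : Spec.map (CommRingCat.ofHom (dmap x)) ≫ p = Spec.map (CommRingCat.ofHom l) ≫ j := by
    refine (comp_mul G _ _ _ _).trans ?_
    have e1 : Spec.map (CommRingCat.ofHom (dmap x)) ≫ α =
        (Spec.map (CommRingCat.ofHom (inl' k)) ≫ eU.inv) ≫ G.e := by
      simp only [α, ← Category.assoc, ← Spec.map_comp, ← CommRingCat.ofHom_comp]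
      have : (dmap x).comp (inl' A) = (inl' k).comp x := RingHom.ext fun f => by
        ext <;> simp [dmap_fst, dmap_snd]
      rw [this, CommRingCat.ofHom_comp, Spec.map_comp, Category.assoc, hx, Category.assoc]
    have e2 : Spec.map (CommRingCat.ofHom (dmap x)) ≫ β = Spec.map (CommRingCat.ofHom l) ≫ j := by
      have : (dmap x).comp (dmap σ) = RingHom.id _ := by
        have h1 : x.comp σ = RingHom.id k := by
          have := Spec.map_injective ((Spec.map_comp _ _).trans (hxσ.trans (Spec.map_id _).symm))
          ext a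
          exact congrArg (fun t => t.hom a) this
        have h1' : ∀ a, x (σ a) = a := fun a => congrArg (fun t => t a) h1
        refine RingHom.ext fun z => ?_
        ext <;> simp [dmap_fst, dmap_snd, h1']
      simp only [β]
      rw [← Category.assoc, ← Spec.map_comp, ← CommRingCat.ofHom_comp, this]
      simp
    refine (mul_congr G _ e1 e2).trans (e_mul G _ _ ?_)
    have e : l.comp τ = inl' k := RingHom.ext fun a => hlτ a
    simp only [Category.assoc, hτ, G.e_s, Category.comp_id]
    rw [← Category.assoc (Spec.map (CommRingCat.ofHom l)), ← Spec.map_comp, ← CommRingCat.ofHom_comp, e]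
  have hr : Set.range p ⊆ Set.range j := by
    rintro _ ⟨y, rfl⟩
    obtain ⟨z, rfl⟩ := surj_fst' A y
    rw [← Scheme.Hom.comp_apply, h3]
    exact ⟨z, rfl⟩
  let q : Spec (CommRingCat.of (DualNumber A)) ⟶ Spec (CommRingCat.of A) := IsOpenImmersion.lift j p hr
  have hq : q ≫ j = p := IsOpenImmersion.lift_fac _ _ _
  let φ : CommRingCat.of A ⟶ CommRingCat.of (DualNumber A) := Spec.preimage q
  have hφ : Spec.map φ = q := Spec.map_preimage q
  have h5 : φ ≫ CommRingCat.ofHom (fst' A) = 𝟙 _ := by
    apply Spec.map_injective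
    rw [Spec.map_comp, hφ, Spec.map_id, ← cancel_mono j, Category.assoc, hq, h3, Category.id_comp]
  have h6 : φ ≫ CommRingCat.ofHom (dmap x) = CommRingCat.ofHom l := by
    apply Spec.map_injective
    rw [Spec.map_comp, hφ, ← cancel_mono j, Category.assoc, hq, h4]
  have h5' : ∀ f, (φ.hom f).fst = f := fun f => by
    have := congrArg (fun t => t.hom f) h5
    exact this
  have h6' : ∀ f, x (φ.hom f).snd = (l f).snd := fun f => by
    have := congrArg (fun t => t.hom f) h6
    rw [← dmap_snd]
    exact congrArg TrivSqZeroExt.snd this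
  refine ⟨Derivation.mk'
    { toFun := fun f => (φ.hom f).snd
      map_add' := fun a b => by simp
      map_smul' := fun c a => by simp } ?_, ?_⟩
  · intro a b
    simp [h5']
    ring
  · intro f
    exact h6' f

include hσ hτ hx in
theorem exists_mul_eq_zero [CharZero k] [IsNoetherianRing A] (a : A) (ha : IsNilpotent a) :
    ∃ c, x c ≠ 0 ∧ c * a = 0 := by
  classical
  have hxτ : ∀ a, x (τ a) = a := by
    have h1 : Spec.map (CommRingCat.ofHom x) ≫ Spec.map (CommRingCat.ofHom τ) = 𝟙 _ := by
      rw [← cancel_mono eU.inv, Category.assoc, ← hτ, ← Category.assoc, hx, Category.assoc, G.e_t]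
      simp
    have h2 := Spec.map_injective ((Spec.map_comp _ _).trans (h1.trans (Spec.map_id _).symm))
    intro a
    exact congrArg (fun t => t.hom a) h2
  let : Algebra k A := τ.toAlgebra
  let : Algebra ℚ A := Algebra.compHom A (algebraMap ℚ k)
  let x' : A →ₐ[k] k := { x with commutes' := hxτ }
  let m : Ideal A := RingHom.ker x
  have hm : m.IsPrime := RingHom.ker_isPrime x
  have hx' : ∀ f, x' f = 0 ↔ f ∈ m := fun f => Iff.rfl
  have := finite_cotangent m x' hx'
  let b := Module.finBasis k m.Cotangent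
  choose y hy using fun i => m.toCotangent_surjective (b i)
  choose D hD using fun i => exists_derivation G eU j σ τ hσ hτ x hx
    (tangent m x' hx' (b.coord i)).toRingHom (fun f => by simp [tangent]; rfl)
    (fun a => (tangent m x' hx' (b.coord i)).commutes a)
  obtain ⟨c, hc, hca⟩ := Groth.Agent.Localalg.CartierAlg.exists_mul_eq_zero m (fun i => (y i : A)) D
    (fun i => (y i).2) (by
      intro z hz
      refine ⟨fun i => algebraMap k A (b.coord i (m.toCotangent ⟨z, hz⟩)), ?_⟩
      have h1 : m.toCotangent (⟨z, hz⟩ - ∑ i, algebraMap k A (b.coord i (m.toCotangent ⟨z, hz⟩)) • y i) = 0 := by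
        rw [map_sub, map_sum, sub_eq_zero]
        conv_lhs => rw [← b.sum_repr (m.toCotangent ⟨z, hz⟩)]
        refine Finset.sum_congr rfl fun i _ => ?_
        rw [map_smul, hy, algebraMap_smul]
        rfl
      rw [Ideal.toCotangent_eq_zero] at h1
      simp only [Submodule.coe_sub, Submodule.coe_sum, Submodule.coe_smul, smul_eq_mul] at h1
      exact h1) (by
      intro i k'
      rw [← hx']
      have h1 := hD i (y k')
      have h2 : (tangent m x' hx' (b.coord i) (y k' : A)).snd = if i = k' then 1 else 0 := by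
        simp only [tangent, dd_of_mem m x' hx' _ (y k').2, AlgHom.coe_mk, RingHom.coe_mk, MonoidHom.coe_mk,
          OneHom.coe_mk, Subtype.coe_eta, hy, Module.Basis.coord_apply, Module.Basis.repr_self,
          snd_add, snd_inl, snd_inr, zero_add, Finsupp.single_apply]
        simp only [eq_comm]
      have h3 : x' (D i (y k')) = if i = k' then 1 else 0 := h1.trans h2
      rw [map_sub, h3]
      split_ifs <;> simp) hm.ne_top a ha
  exact ⟨c, fun h => hc h, hca⟩

end der

section alg

variable {k : Type u} [Field k] {A : Type u} [CommRing A] (x : A →+* k)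

theorem exists_kill [IsNoetherianRing A] (H : ∀ a : A, IsNilpotent a → ∃ c, x c ≠ 0 ∧ c * a = 0) :
    ∃ c, x c ≠ 0 ∧ ∀ a : A, IsNilpotent a → c * a = 0 := by
  classical
  obtain ⟨s, hs⟩ := IsNoetherian.noetherian (nilradical A)
  have hs' : ∀ a ∈ s, IsNilpotent a := fun a ha => by
    rw [← mem_nilradical, ← hs]
    exact Submodule.subset_span ha
  choose! c hc hc' using H
  refine ⟨∏ a ∈ s, c a, ?_, ?_⟩
  · rw [map_prod, Finset.prod_ne_zero_iff]
    exact fun a ha => hc a (hs' a ha)
  · intro a ha
    rw [← mem_nilradical, ← hs] at ha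
    refine Submodule.span_induction (p := fun a _ => (∏ a ∈ s, c a) * a = 0) ?_ ?_ ?_ ?_ ha
    · intro b hb
      rw [← Finset.mul_prod_erase s c hb, mul_right_comm, hc' b (hs' b hb), zero_mul]
    · exact mul_zero _
    · intro b d _ _ hb hd
      rw [mul_add, hb, hd, add_zero]
    · intro r b _ hb
      rw [smul_eq_mul, mul_left_comm, hb, mul_zero]

theorem isReduced_away (c : A) (H : ∀ a : A, IsNilpotent a → c * a = 0) :
    _root_.IsReduced (Localization.Away c) := by
  constructor
  intro z hz
  obtain ⟨n, hn⟩ := hz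
  obtain ⟨a, t, rfl⟩ := IsLocalization.exists_mk'_eq (Submonoid.powers c) z
  rw [← IsLocalization.mk'_pow, IsLocalization.mk'_eq_zero_iff] at hn
  obtain ⟨⟨_, l, rfl⟩, hl⟩ := hn
  have h1 : IsNilpotent (c ^ l * a) := by
    refine ⟨n + 1, ?_⟩
    have : (c ^ l * a) ^ (n + 1) = (c ^ l) ^ n * a * (c ^ l * a ^ n) := by ring
    rw [this, hl, mul_zero]
  have h2 := H _ h1
  rw [IsLocalization.mk'_eq_zero_iff]
  exact ⟨⟨c ^ (l + 1), l + 1, rfl⟩, by rw [← h2]; ring⟩

end alg

section main

variable {k : Type u} [Field k] (eU : G.U ≅ Spec (CommRingCat.of k))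
  [LocallyOfFiniteType G.t]

include eU in

theorem locallyOfFinitePresentation : LocallyOfFinitePresentation G.t := by
  have : IsLocallyNoetherian G.U := isLocallyNoetherian_of_isOpenImmersion eU.hom
  infer_instance

include eU in
theorem smooth_of_perfect [PerfectField k] [IsReduced G.R] : Smooth G.s ∧ Smooth G.t := by
  have := locallyOfFinitePresentation G eU
  let p : Spec (CommRingCat.of k) := IsLocalRing.closedPoint k
  have : Nonempty G.R := ⟨G.e (eU.inv p)⟩
  exact smooth_of_isReduced G eU (𝟙 G.R)

include eU in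
theorem smooth_of_charZero [CharZero k] : Smooth G.s ∧ Smooth G.t := by
  have := locallyOfFinitePresentation G eU
  have : IsLocallyNoetherian G.U := isLocallyNoetherian_of_isOpenImmersion eU.hom
  have : IsLocallyNoetherian G.R := LocallyOfFiniteType.isLocallyNoetherian G.t
  let p : Spec (CommRingCat.of k) := IsLocalRing.closedPoint k
  obtain ⟨_, ⟨V, hV, rfl⟩, hpV, -⟩ :=
    G.R.isBasis_affineOpens.exists_subset_of_mem_open (Set.mem_univ ((eU.inv ≫ G.e) p)) isOpen_univ
  have hA : IsNoetherianRing Γ(G.R, V) := IsLocallyNoetherian.component_noetherian ⟨V, hV⟩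
  let j : Spec Γ(G.R, V) ⟶ G.R := hV.fromSpec
  have hj : IsOpenImmersion j := hV.isOpenImmersion_fromSpec
  obtain ⟨σ, hσ⟩ := Spec.map_surjective (j ≫ G.s ≫ eU.hom)
  obtain ⟨τ, hτ⟩ := Spec.map_surjective (j ≫ G.t ≫ eU.hom)
  have hrange : Set.range (eU.inv ≫ G.e) ⊆ Set.range j := by
    rintro _ ⟨q, rfl⟩
    have hq : q = p := Subsingleton.elim (α := PrimeSpectrum k) _ _
    rw [hq, hV.range_fromSpec]
    exact hpV
  let q := IsOpenImmersion.lift j (eU.inv ≫ G.e) hrange
  have hq : q ≫ j = eU.inv ≫ G.e := IsOpenImmersion.lift_fac _ _ _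
  obtain ⟨x, hx⟩ := Spec.map_surjective q
  obtain ⟨c, hc, hc'⟩ := exists_kill x.hom fun a ha => exists_mul_eq_zero G eU j σ.hom τ.hom
    (by rw [← Category.assoc] at hσ; rw [CommRingCat.ofHom_hom, hσ]; simp)
    (by rw [← Category.assoc] at hτ; rw [CommRingCat.ofHom_hom, hτ]; simp)
    x.hom (by rw [CommRingCat.ofHom_hom, hx, hq]) a ha
  have hred := isReduced_away c hc'
  let W := Spec (CommRingCat.of (Localization.Away c))
  have hW : IsReduced W := (affine_isReduced_iff _).mpr hred
  have hne : Nonempty W := by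
    have : Nontrivial (Localization.Away c) :=
      (IsLocalization.Away.lift (S := Localization.Away c) c (g := x.hom)
        (isUnit_iff_ne_zero.mpr hc)).domain_nontrivial
    infer_instance
  exact smooth_of_isReduced G eU
    (Spec.map (CommRingCat.ofHom (algebraMap Γ(G.R, V) (Localization.Away c))) ≫ j)

end main

end K392.SmoothField
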