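import Groth.Agent.Grpsch.Points
import Groth.Agent.Grpsch.FieldGrpd

/-!
# Subgroupoids with the same objects

Given a groupoid scheme `G` and a monomorphism `z : Z ⟶ G.R` through which the identity, the inverse and
the composition factor, `sub` is the groupoid scheme `(U, Z)` and `hom` its morphism to `G`.
-/

set_option autoImplicit false
universe u

open CategoryTheory CategoryTheory.Limits AlgebraicGeometry

namespace K392.SubGrpd

open Groth.Agent.Grpsch.Points

variable {S : Scheme.{u}} (G : Grpd.GroupoidScheme S)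

/-- Data exhibiting a monomorphism `z : Z ⟶ G.R` as a wide subgroupoid. -/
structure Data where
  Z : Scheme.{u}
  z : Z ⟶ G.R
  mono : Mono z
  e : G.U ⟶ Z
  e_z : e ≫ z = G.e
  i : Z ⟶ Z
  i_z : i ≫ z = z ≫ G.i
  c : pullback (z ≫ G.s) (z ≫ G.t) ⟶ Z
  c_z : c ≫ z = mul G (pullback.fst (z ≫ G.s) (z ≫ G.t) ≫ z) (pullback.snd _ _ ≫ z)
    (by rw [Category.assoc, Category.assoc, pullback.condition])

variable {G} (D : Data G) {T : Scheme.{u}}

instance : Mono D.z := D.mono

/-- composition of points -/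
noncomputable def Data.comp (α β : T ⟶ D.Z) (h : α ≫ D.z ≫ G.s = β ≫ D.z ≫ G.t) : T ⟶ D.Z :=
  pullback.lift α β h ≫ D.c

lemma Data.comp_z (α β : T ⟶ D.Z) (h : α ≫ D.z ≫ G.s = β ≫ D.z ≫ G.t) :
    D.comp α β h ≫ D.z = mul G (α ≫ D.z) (β ≫ D.z)
      (by rw [Category.assoc, Category.assoc, h]) := by
  rw [Data.comp, Category.assoc, D.c_z, comp_mul]
  apply mul_congr
  · rw [pullback.lift_fst_assoc]
  · rw [pullback.lift_snd_assoc]

lemma Data.comp_s (α β : T ⟶ D.Z) (h : α ≫ D.z ≫ G.s = β ≫ D.z ≫ G.t) :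
    D.comp α β h ≫ D.z ≫ G.s = β ≫ D.z ≫ G.s := by
  rw [← Category.assoc, comp_z, mul_s, Category.assoc]

lemma Data.comp_t (α β : T ⟶ D.Z) (h : α ≫ D.z ≫ G.s = β ≫ D.z ≫ G.t) :
    D.comp α β h ≫ D.z ≫ G.t = α ≫ D.z ≫ G.t := by
  rw [← Category.assoc, comp_z, mul_t, Category.assoc]

/-- The subgroupoid. -/
noncomputable def Data.grpd : Grpd.GroupoidScheme S where
  U := G.U
  R := D.Z
  pU := G.pU
  pR := D.z ≫ G.pR
  s := D.z ≫ G.s
  t := D.z ≫ G.t
  e := D.e
  i := D.i
  c := D.c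
  s_over := by rw [Category.assoc, G.s_over]
  t_over := by rw [Category.assoc, G.t_over]
  comp_s α β h := D.comp_s α β h
  comp_t α β h := D.comp_t α β h
  assoc α β γ h₁ h₂ := by
    rw [← cancel_mono D.z]
    refine (D.comp_z _ _ _).trans (Eq.trans ?_ (D.comp_z _ _ _).symm)
    refine (mul_congr G _ (D.comp_z α β h₁) rfl).trans
      (Eq.trans ?_ (mul_congr G _ rfl (D.comp_z β γ h₂)).symm)
    exact mul_assoc G _ _ _ _ _
  e_s := by rw [← Category.assoc, D.e_z, G.e_s]
  e_t := by rw [← Category.assoc, D.e_z, G.e_t]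
  comp_e α := by
    rw [← cancel_mono D.z]
    refine (D.comp_z _ _ _).trans ?_
    refine Eq.trans (mul_congr G _ rfl ?_) (mul_e G (α ≫ D.z) (α ≫ D.z ≫ G.s) (by simp))
    simp only [Category.assoc, D.e_z]
  e_comp α := by
    rw [← cancel_mono D.z]
    refine (D.comp_z _ _ _).trans ?_
    refine Eq.trans (mul_congr G _ ?_ rfl) (e_mul G (α ≫ D.z) (α ≫ D.z ≫ G.t) (by simp))
    simp only [Category.assoc, D.e_z]
  i_s := by rw [← Category.assoc, D.i_z, Category.assoc, G.i_s]
  i_t := by rw [← Category.assoc, D.i_z, Category.assoc, G.i_t]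
  comp_i α := by
    rw [← cancel_mono D.z]
    refine (D.comp_z _ _ _).trans ?_
    refine Eq.trans (mul_congr G _ rfl ?_) ((mul_inv G (α ≫ D.z) (by simp)).trans ?_)
    · simp only [Category.assoc, D.i_z]
    · simp only [Category.assoc, D.e_z]
  i_comp α := by
    rw [← cancel_mono D.z]
    refine (D.comp_z _ _ _).trans ?_
    refine Eq.trans (mul_congr G _ ?_ rfl) ((inv_mul G (α ≫ D.z) (by simp)).trans ?_)
    · simp only [Category.assoc, D.i_z]
    · simp only [Category.assoc, D.e_z]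

/-- The inclusion of the subgroupoid. -/
noncomputable def Data.hom : Grpd.GroupoidScheme.Hom D.grpd G where
  fU := 𝟙 _
  fR := D.z
  fU_over := Category.id_comp _
  comm_s := (Category.comp_id _).symm
  comm_t := (Category.comp_id _).symm
  comm_c α β h := D.comp_z α β h

end K392.SubGrpd
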