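import Groth.Agent.Grpsch.Thicken

/-!
# The flattening thickening over an invariant open on which the rank is locally constant
-/

set_option autoImplicit false

open CategoryTheory CategoryTheory.Limits AlgebraicGeometry Topology

namespace K392.ThickenGen

open Groth.Agent.Grpsch.Points Groth.Agent.Grpsch.FibRank Groth.Agent.Grpsch.Thicken

universe u

variable {S : Scheme.{u}} (G : Grpd.GroupoidScheme S) (N : G.U.Opens)

lemma isLocallyConstant_rk' [IsFinite G.s] (hN : ∀ u ∈ N, u ∈ locConst G) :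
    IsLocallyConstant (rk (G.s ∣_ N)) := by
  rw [IsLocallyConstant.iff_eventually_eq]
  intro w
  have h1 : ∀ w : (N : Scheme), rk (G.s ∣_ N) w = rk G.s (N.ι w) := fun w =>
    rk_of_isPullback (isPullback_morphismRestrict G.s N).flip w
  have h2 : ∀ᶠ u' in 𝓝 (N.ι w), rk G.s u' = rk G.s (N.ι w) := hN _ w.2
  have h3 := (N.ι.continuous.tendsto w).eventually h2
  filter_upwards [h3] with w' hw'
  rw [h1, h1, hw']

variable [IsFinite G.s] (hlc : IsLocallyConstant (rk (G.s ∣_ N)))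

/-- the thickening `N' ⊆ N`. -/
noncomputable def N' : (N : Scheme.{u}).IdealSheafData :=
  flatSheaf (G.s ∣_ N) hlc

/-- the inclusion `N' → U`. -/
noncomputable abbrev κ : (N' G N hlc).subscheme ⟶ G.U :=
  (N' G N hlc).subschemeι ≫ N.ι

lemma exists_lift_iff {T : Scheme.{u}} (β : T ⟶ G.U) :
    (∃ g' : T ⟶ (N' G N hlc).subscheme, g' ≫ κ G N hlc = β) ↔
      (∀ x : T, β x ∈ N) ∧ Flat (pullback.snd G.s β) := by
  constructor
  · rintro ⟨g', rfl⟩
    refine ⟨fun x => ?_, ?_⟩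
    · rw [← Category.assoc, Scheme.Hom.comp_apply]
      exact ((g' ≫ (N' G N hlc).subschemeι) x).2
    · rw [← Category.assoc, ← snd_restrict_iff @Flat]
      exact (flat_snd_iff_exists (G.s ∣_ N) hlc _).mpr ⟨g', rfl⟩
  · rintro ⟨h1, h2⟩
    let a : T ⟶ N := IsOpenImmersion.lift N.ι β (by
      rintro _ ⟨x, rfl⟩
      simpa using h1 x)
    have ha : a ≫ N.ι = β := IsOpenImmersion.lift_fac _ _ _
    rw [← ha, ← snd_restrict_iff @Flat] at h2
    obtain ⟨g', hg'⟩ := (flat_snd_iff_exists (G.s ∣_ N) hlc a).mp h2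
    refine ⟨g', ?_⟩
    rw [κ, ← Category.assoc]
    change (g' ≫ (flatSheaf (G.s ∣_ N) hlc).subschemeι) ≫ _ = _
    rw [hg', ha]

variable (hinv : G.s ⁻¹ᵁ N = G.t ⁻¹ᵁ N)

include hinv in
lemma exists_lift_s_iff_t {T : Scheme.{u}} (α : T ⟶ G.R) :
    (∃ g' : T ⟶ (N' G N hlc).subscheme, g' ≫ κ G N hlc = α ≫ G.s) ↔
      (∃ g' : T ⟶ (N' G N hlc).subscheme, g' ≫ κ G N hlc = α ≫ G.t) := by
  rw [exists_lift_iff, exists_lift_iff, snd_s_iff G @Flat]
  have h : ∀ x : T, (α ≫ G.s) x ∈ N ↔ (α ≫ G.t) x ∈ N := by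
    intro x
    rw [Scheme.Hom.comp_apply, Scheme.Hom.comp_apply]
    exact (SetLike.ext_iff.mp hinv) (α x)
  simp only [h]

instance : Mono (κ G N hlc) := inferInstance

include hinv in
/-- the invariance isomorphism. -/
theorem exists_iso :
    ∃ φ : pullback G.s (κ G N hlc) ≅ pullback G.t (κ G N hlc),
      φ.hom ≫ pullback.fst G.t (κ G N hlc) = pullback.fst G.s (κ G N hlc) := by
  obtain ⟨a, ha⟩ := (exists_lift_s_iff_t G N hlc hinv (pullback.fst G.s (κ G N hlc))).mp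
    ⟨pullback.snd G.s (κ G N hlc), pullback.condition.symm⟩
  obtain ⟨b, hb⟩ := (exists_lift_s_iff_t G N hlc hinv (pullback.fst G.t (κ G N hlc))).mpr
    ⟨pullback.snd G.t (κ G N hlc), pullback.condition.symm⟩
  refine ⟨⟨pullback.lift (pullback.fst G.s (κ G N hlc)) a ha.symm,
    pullback.lift (pullback.fst G.t (κ G N hlc)) b hb.symm, ?_, ?_⟩, pullback.lift_fst _ _ _⟩
  · rw [← cancel_mono (pullback.fst G.s (κ G N hlc))]
    simp [pullback.lift_fst]
  · rw [← cancel_mono (pullback.fst G.t (κ G N hlc))]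
    simp [pullback.lift_fst]

lemma isFinLocFree_s : Mor2.IsFinLocFree (pullback.snd G.s (κ G N hlc)) := by
  refine ⟨inferInstance, ?_, ?_⟩
  · rw [← snd_restrict_iff @Flat]
    exact flat_snd_subschemeι (G.s ∣_ N) hlc
  · rw [← snd_restrict_iff @LocallyOfFinitePresentation]
    exact locallyOfFinitePresentation_snd_subschemeι (G.s ∣_ N) hlc

lemma isFinLocFree_t [IsFinite G.t] : Mor2.IsFinLocFree (pullback.snd G.t (κ G N hlc)) := by
  obtain ⟨h1, h2, h3⟩ := isFinLocFree_s G N hlc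
  exact ⟨inferInstance, (snd_t_iff G @Flat _).mpr h2,
    (snd_t_iff G @LocallyOfFinitePresentation _).mpr h3⟩

end K392.ThickenGen
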