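import Groth.Agent.Grpsch.Points
import Mathlib.AlgebraicGeometry.ResidueField
import Mathlib.AlgebraicGeometry.PullbackCarrier

/-!
# Right translation between fibres of the source morphism
-/

set_option autoImplicit false
universe u

open CategoryTheory CategoryTheory.Limits AlgebraicGeometry

namespace K392.Translate

open Groth.Agent.Grpsch.Points

variable {S : Scheme.{u}} (G : Grpd.GroupoidScheme S) {T : Scheme.{u}}

section
variable (x y : T ⟶ G.R) (h : x ≫ G.t = y ≫ G.t)

lemma aux1 : pullback.fst G.s (x ≫ G.s) ≫ G.s =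
    ((pullback.snd G.s (x ≫ G.s) ≫ x) ≫ G.i) ≫ G.t := by
  rw [inv_t, pullback.condition, Category.assoc]

include h in
lemma aux2 : mul G (pullback.fst G.s (x ≫ G.s)) ((pullback.snd G.s (x ≫ G.s) ≫ x) ≫ G.i)
    (aux1 G x) ≫ G.s = (pullback.snd G.s (x ≫ G.s) ≫ y) ≫ G.t := by
  rw [mul_s, inv_s, Category.assoc, Category.assoc, h]

/-- `(α, p) ↦ (α x(p)⁻¹ y(p), p)` from `R ×_{s, U, s x} T` to `R ×_{s, U, s y} T`. -/
noncomputable def transl : pullback G.s (x ≫ G.s) ⟶ pullback G.s (y ≫ G.s) :=
  pullback.lift (mul G (mul G (pullback.fst G.s (x ≫ G.s))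
    ((pullback.snd G.s (x ≫ G.s) ≫ x) ≫ G.i) (aux1 G x)) (pullback.snd G.s (x ≫ G.s) ≫ y)
    (aux2 G x y h)) (pullback.snd G.s (x ≫ G.s)) (by rw [mul_s, Category.assoc])

lemma transl_fst : transl G x y h ≫ pullback.fst G.s (y ≫ G.s) =
    mul G (mul G (pullback.fst G.s (x ≫ G.s))
    ((pullback.snd G.s (x ≫ G.s) ≫ x) ≫ G.i) (aux1 G x)) (pullback.snd G.s (x ≫ G.s) ≫ y)
    (aux2 G x y h) := pullback.lift_fst _ _ _

lemma transl_snd : transl G x y h ≫ pullback.snd G.s (y ≫ G.s) = pullback.snd G.s (x ≫ G.s) :=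
  pullback.lift_snd _ _ _

lemma transl_transl : transl G x y h ≫ transl G y x h.symm = 𝟙 _ := by
  apply pullback.hom_ext
  · rw [Category.assoc, transl_fst, Category.id_comp, comp_mul]
    have e1 : transl G x y h ≫ pullback.snd G.s (y ≫ G.s) ≫ x = pullback.snd G.s (x ≫ G.s) ≫ x := by
      rw [← Category.assoc, transl_snd]
    have e2 : transl G x y h ≫ (pullback.snd G.s (y ≫ G.s) ≫ y) ≫ G.i =
        (pullback.snd G.s (x ≫ G.s) ≫ y) ≫ G.i := by
      rw [← Category.assoc, ← Category.assoc, transl_snd]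
    have e3 : transl G x y h ≫ mul G (pullback.fst G.s (y ≫ G.s))
        ((pullback.snd G.s (y ≫ G.s) ≫ y) ≫ G.i) (aux1 G y) =
        mul G (pullback.fst G.s (x ≫ G.s)) ((pullback.snd G.s (x ≫ G.s) ≫ x) ≫ G.i) (aux1 G x) := by
      rw [comp_mul]
      refine Eq.trans (mul_congr G _ (transl_fst G x y h) e2) ?_
      exact mul_inv_cancel_right G _ _ _ _
    refine Eq.trans (mul_congr G _ e3 e1) ?_
    exact inv_mul_cancel_right G _ _ _ _
  · rw [Category.assoc, transl_snd, transl_snd, Category.id_comp]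

/-- Right translation as an isomorphism. -/
noncomputable def translIso : pullback G.s (x ≫ G.s) ≅ pullback G.s (y ≫ G.s) where
  hom := transl G x y h
  inv := transl G y x h.symm
  hom_inv_id := transl_transl G x y h
  inv_hom_id := transl_transl G y x h.symm

/-- `transl` sends the point `x` to the point `y`. -/
lemma lift_transl : pullback.lift x (𝟙 T) (Category.id_comp _).symm ≫ transl G x y h =
    pullback.lift y (𝟙 T) (Category.id_comp _).symm := by
  apply pullback.hom_ext
  · rw [Category.assoc, transl_fst, comp_mul, pullback.lift_fst]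
    have e1 : pullback.lift x (𝟙 T) (Category.id_comp _).symm ≫ pullback.snd G.s (x ≫ G.s) ≫ y = y := by
      rw [pullback.lift_snd_assoc, Category.id_comp]
    have e2 : pullback.lift x (𝟙 T) (Category.id_comp _).symm ≫
        mul G (pullback.fst G.s (x ≫ G.s)) ((pullback.snd G.s (x ≫ G.s) ≫ x) ≫ G.i) (aux1 G x) =
        (x ≫ G.t) ≫ G.e := by
      rw [comp_mul]
      refine Eq.trans (mul_congr G _ (pullback.lift_fst _ _ _) ?_) (mul_inv G x (inv_t G x).symm)
      rw [← Category.assoc, pullback.lift_snd_assoc, Category.id_comp]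
    refine Eq.trans (mul_congr G _ e2 e1) ?_
    exact e_mul G _ _ _
  · rw [Category.assoc, transl_snd, pullback.lift_snd, pullback.lift_snd]

end

end K392.Translate
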